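import Mathlib
import Cfsg.Agent.Lib.Helper02.ThompsonJ
import Cfsg.Agent.Lib.Helper97.ThompsonPN
import Cfsg.Agent.Lib.Helper03.NormalPComplement
import Cfsg.Agent.Lib.Helper41.Frobenius
import Cfsg.Agent.Lib.Helper74.NPC
import Cfsg.Agent.Lib.Helper81.Cores
import Cfsg.Agent.Lib.Helper15.Lifting
import Cfsg.Agent.Lib.Helper69.PGroup

set_option autoImplicit false
open Cfsg
open Cfsg.Agent.Lib.Helper02 Cfsg.Agent.Lib.Helper97

namespace Cfsg.Agent.Lib.Lead

/-- hypothesis of the Thompson normal p-complement theorem for a p-subgroup `P` -/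
def hyp {G : Type*} [Group G] (p : ℕ) (P : Subgroup G) : Prop :=
  HasNormalPComplement p ↥(Subgroup.normalizer (thompsonSubgroupOf p P : Set G)) ∧
  HasNormalPComplement p ↥(Subgroup.centralizer (ZC P : Set G))

section Hyp
variable {G : Type*} [Group G] [Finite G] {p : ℕ} [Fact p.Prime]

/-- pull back the hypothesis along an injective hom -/
theorem hyp_of_map {H : Type*} [Group H] [Finite H] (f : H →* G) (hf : Function.Injective f)
    (R : Subgroup H) (h : hyp p (R.map f)) : hyp p R := by
  have hinj : Set.InjOn f (R : Set H) := hf.injOn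
  constructor
  · refine pn_of_map_le f hf _ _ ?_ h.1
    rw [thompsonOf_map f R hinj]
    exact Subgroup.le_normalizer_map f
  · refine pn_of_map_le f hf _ _ ?_ h.2
    rw [ZC_map f R hinj]
    have := Subgroup.map_centralizer_le_centralizer_image (ZC R : Set H) f
    simpa using this

theorem hyp_conj {P : Subgroup G} (h : hyp p P) (g : G) :
    hyp p (P.map (MulAut.conj g).toMonoidHom) := by
  apply hyp_of_map (MulAut.conj g⁻¹).toMonoidHom (MulAut.conj g⁻¹).injective
  have : (P.map (MulAut.conj g).toMonoidHom).map (MulAut.conj g⁻¹).toMonoidHom = P := by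
    rw [Subgroup.map_map]
    ext x
    simp only [Subgroup.mem_map, MonoidHom.coe_comp, MulEquiv.coe_toMonoidHom, Function.comp_apply,
      MulAut.conj_apply]
    constructor
    · rintro ⟨y, hy, rfl⟩
      have : g⁻¹ * (g * y * g⁻¹) * g⁻¹⁻¹ = y := by group
      rw [this]; exact hy
    · intro hx
      exact ⟨x, hx, by group⟩
  rw [this]
  exact h

theorem hyp_sylow (P P' : Sylow p G) (h : hyp p (P : Subgroup G)) : hyp p (P' : Subgroup G) := by
  obtain ⟨g, rfl⟩ := MulAction.exists_smul_eq G P P'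
  have := hyp_conj h g
  rw [Sylow.coe_subgroup_smul, Subgroup.pointwise_smul_def]
  exact this

end Hyp

section Main
universe u
variable {G : Type u} [Group G] [Finite G] {p : ℕ} [Fact p.Prime]

/-- the induction hypothesis -/
def IHyp (p : ℕ) (G : Type u) [Group G] : Prop :=
  ∀ (G' : Type u) [Group G'] [Finite G'], Nat.card G' < Nat.card G →
    ∀ P' : Sylow p G', hyp p (P' : Subgroup G') → HasNormalPComplement p G'

theorem card_lt_of_ne_top {M : Subgroup G} (hM : M ≠ ⊤) : Nat.card M < Nat.card G := by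
  have h1 : Nat.card M ≤ Nat.card G := Subgroup.card_le_card_group M
  rcases h1.lt_or_eq with h | h
  · exact h
  · exact absurd (Subgroup.card_eq_iff_eq_top M |>.mp h) hM

/-- (A) proper subgroups containing a Sylow p-subgroup have a normal p-complement -/
theorem stepA (IH : IHyp p G) (hall : ∀ P' : Sylow p G, hyp p (P' : Subgroup G))
    (M : Subgroup G) (hM : M ≠ ⊤) (P' : Sylow p G) (hPM : (P' : Subgroup G) ≤ M) :
    HasNormalPComplement p ↥M := by
  apply IH ↥M (card_lt_of_ne_top hM) (P'.subtype hPM)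
  apply hyp_of_map M.subtype M.subtype_injective
  rw [Sylow.coe_subtype, Subgroup.subgroupOf_map_subtype, inf_of_le_left hPM]
  exact hall P'

end Main

section MainB
universe u
variable {G : Type u} [Group G] [Finite G] {p : ℕ} [Fact p.Prime]

theorem card_lt_of_lt' {A B : Subgroup G} (h : A < B) : Nat.card A < Nat.card B := by
  have h1 : Nat.card A ≤ Nat.card B := Subgroup.card_le_of_le h.le
  rcases h1.lt_or_eq with h2 | h2
  · exact h2
  · exfalso
    have : A = B := by
      apply SetLike.coe_injective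
      apply Set.eq_of_subset_of_ncard_le h.le _ (Set.toFinite _)
      rw [← Nat.card_coe_set_eq, ← Nat.card_coe_set_eq]
      exact h2.ge
    exact h.ne this

/-- (B) in a minimal counterexample `O_p(G) ≠ 1` -/
theorem stepB (IH : IHyp p G) (hall : ∀ P' : Sylow p G, hyp p (P' : Subgroup G))
    (hG : ¬ HasNormalPComplement p G) : pCore p G ≠ ⊥ := by
  classical
  have hp : p.Prime := Fact.out
  intro hbot
  have hex : ∃ Q : Subgroup G, IsPGroup p Q ∧ Q ≠ ⊥ ∧
      ¬ HasNormalPComplement p ↥(Subgroup.normalizer (Q : Set G)) := by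
    by_contra hne
    push Not at hne
    exact hG (Helper41.hasNormalPComplement_of_local hne)
  let 𝒰 := {Q : Subgroup G // IsPGroup p Q ∧ Q ≠ ⊥ ∧
      ¬ HasNormalPComplement p ↥(Subgroup.normalizer (Q : Set G))}
  haveI : Nonempty 𝒰 := let ⟨Q, hQ⟩ := hex; ⟨⟨Q, hQ⟩⟩
  obtain ⟨⟨U, hUp, hUne, hUbad⟩, hmax⟩ := Finite.exists_max
    (fun Q : 𝒰 => (Nat.card (Subgroup.normalizer (Q.1 : Set G))).factorization p)
  set N := Subgroup.normalizer (U : Set G) with hN
  have hNtop : N ≠ ⊤ := by
    intro h
    have hUn : U.Normal := Subgroup.normalizer_eq_top_iff.mp h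
    have := Helper81.le_pCore hUn hUp
    rw [hbot] at this
    exact hUne (le_bot_iff.mp this)
  obtain ⟨S'⟩ : Nonempty (Sylow p ↥N) := inferInstance
  set S := (S' : Subgroup ↥N).map N.subtype with hS
  have hSp : IsPGroup p S := S'.2.map _
  have hScard : Nat.card S = p ^ (Nat.card N).factorization p := by
    rw [hS, Subgroup.card_map_of_injective N.subtype_injective]
    exact S'.card_eq_multiplicity
  have hUS : U ≤ S := by
    haveI : (U.subgroupOf N).Normal := Subgroup.normal_in_normalizer
    have hUp' : IsPGroup p (U.subgroupOf N) := hUp.comap_subtype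
    have h1 : U.subgroupOf N ≤ S' := IsPGroup.le_sylow_of_normal hUp' S'
    intro x hx
    refine ⟨⟨x, Subgroup.le_normalizer hx⟩, h1 ?_, rfl⟩
    rw [Subgroup.mem_subgroupOf]
    exact hx
  have hSne : S ≠ ⊥ := fun h => hUne (le_bot_iff.mp (h ▸ hUS))
  have hnh : ¬ hyp p (S' : Subgroup ↥N) :=
    fun h => hUbad (IH ↥N (card_lt_of_ne_top hNtop) S' h)
  have hnh' : ¬ hyp p S := fun h => hnh (hyp_of_map N.subtype N.subtype_injective _ h)
  have hX : ∃ X : Subgroup G, IsPGroup p X ∧ X ≠ ⊥ ∧
      Subgroup.normalizer (S : Set G) ≤ Subgroup.normalizer (X : Set G) ∧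
      ¬ HasNormalPComplement p ↥(Subgroup.normalizer (X : Set G)) := by
    unfold hyp at hnh'
    rw [not_and_or] at hnh'
    rcases hnh' with h | h
    · exact ⟨thompsonSubgroupOf p S, hSp.to_le (thompsonOf_le S), thompsonOf_ne_bot hSp hSne,
        normalizer_le_normalizer_thompsonOf S, h⟩
    · exact ⟨ZC S, hSp.to_le inf_le_left, ZC_ne_bot hSp hSne, normalizer_le_normalizer_ZC S,
        fun h' => h (pn_of_le (Subgroup.centralizer_le_normalizer _) h')⟩
  obtain ⟨X, hXp, hXne, hSX, hXbad⟩ := hX
  have hle : (Nat.card (Subgroup.normalizer (X : Set G))).factorization p ≤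
      (Nat.card N).factorization p := hmax ⟨X, hXp, hXne, hXbad⟩
  obtain ⟨P', hSP'⟩ := hSp.exists_le_sylow
  by_cases hEq : S = (P' : Subgroup G)
  · apply hUbad
    apply stepA IH hall N hNtop P'
    rw [← hEq]
    exact Subgroup.map_subtype_le _
  · have hlt : S < (P' : Subgroup G) := lt_of_le_of_ne hSP' hEq
    obtain ⟨x, hxP, hxS, hxN⟩ :=
      Helper69.exists_mem_normalizer_notMem (P' : Subgroup G) S P'.2 hlt
    set T := (P' : Subgroup G) ⊓ Subgroup.normalizer (S : Set G) with hT
    have hTp : IsPGroup p T := P'.2.to_le inf_le_left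
    have hST : S < T := by
      refine lt_of_le_of_ne (le_inf hSP' Subgroup.le_normalizer) ?_
      intro h
      apply hxS
      rw [h]
      exact ⟨hxP, hxN⟩
    have hTX : T ≤ Subgroup.normalizer (X : Set G) := inf_le_right.trans hSX
    obtain ⟨t, ht⟩ := IsPGroup.iff_card.mp hTp
    have h1 : Nat.card S < Nat.card T := card_lt_of_lt' hST
    rw [hScard, ht] at h1
    have h2 : (Nat.card N).factorization p < t := (Nat.pow_lt_pow_iff_right hp.one_lt).mp h1
    have h3 : p ^ t ∣ Nat.card (Subgroup.normalizer (X : Set G)) := by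
      rw [← ht]
      exact Subgroup.card_dvd_of_le hTX
    have h4 : t ≤ (Nat.card (Subgroup.normalizer (X : Set G))).factorization p :=
      (hp.pow_dvd_iff_le_factorization Nat.card_pos.ne').mp h3
    omega

end MainB

section MainC
universe u
variable {G : Type u} [Group G] [Finite G] {p : ℕ} [Fact p.Prime]

theorem card_quotient_lt' (H₀ : Subgroup G) [H₀.Normal] (h : H₀ ≠ ⊥) :
    Nat.card (G ⧸ H₀) < Nat.card G := by
  have h1 := Subgroup.card_eq_card_quotient_mul_card_subgroup H₀
  have h2 : 1 < Nat.card H₀ := by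
    rcases Nat.lt_or_ge 1 (Nat.card H₀) with h3 | h3
    · exact h3
    · exfalso
      have h4 : Nat.card H₀ = 1 := le_antisymm h3 Nat.card_pos
      exact h (Subgroup.card_eq_one.mp h4)
  have h3 : 0 < Nat.card (G ⧸ H₀) := Nat.card_pos
  rw [h1]
  nlinarith

/-- (C) the quotient by `O_p(G)` has a normal p-complement -/
theorem stepC (IH : IHyp p G) (hall : ∀ P' : Sylow p G, hyp p (P' : Subgroup G))
    (H₀ : Subgroup G) [H₀.Normal] (hHp : IsPGroup p H₀)
    (hHmax : ∀ X : Subgroup G, X.Normal → IsPGroup p X → X ≤ H₀) (hHne : H₀ ≠ ⊥) :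
    HasNormalPComplement p (G ⧸ H₀) := by
  classical
  have hp : p.Prime := Fact.out
  obtain ⟨P⟩ : Nonempty (Sylow p G) := inferInstance
  set f := QuotientGroup.mk' H₀ with hf
  have hfs : Function.Surjective f := QuotientGroup.mk'_surjective H₀
  have hlt := card_quotient_lt' H₀ hHne
  have hHP : H₀ ≤ P := hHp.le_sylow_of_normal P
  have hPbp : IsPGroup p ((P : Subgroup G).map f) := P.2.map f
  by_cases hPb : (P : Subgroup G).map f = ⊥
  · apply pn_of_coprime_card
    have h1 := (P.mapSurjective hfs).card_eq_multiplicity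
    rw [Sylow.coe_mapSurjective, hPb, Subgroup.card_bot] at h1
    have h2 : (Nat.card (G ⧸ H₀)).factorization p = 0 := by
      by_contra h
      have : 1 < p ^ (Nat.card (G ⧸ H₀)).factorization p := Nat.one_lt_pow h hp.one_lt
      omega
    rw [Nat.coprime_comm, hp.coprime_iff_not_dvd]
    intro hd
    have := (hp.pow_dvd_iff_le_factorization (Nat.card_pos (α := G ⧸ H₀)).ne').mp (by simpa using hd : p ^ 1 ∣ _)
    omega
  · have key : ∀ Y' : Subgroup (G ⧸ H₀), Y' ≤ (P : Subgroup G).map f → Y' ≠ ⊥ →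
        Subgroup.normalizer (((P : Subgroup G).map f : Subgroup (G ⧸ H₀)) : Set (G ⧸ H₀)) ≤
          Subgroup.normalizer (Y' : Set (G ⧸ H₀)) →
        HasNormalPComplement p ↥(Subgroup.normalizer (Y' : Set (G ⧸ H₀))) := by
      intro Y' hY'P hY'ne hnorm
      set Y := Y'.comap f with hY
      have hYP : Y ≤ P := by
        intro y hy
        obtain ⟨x, hx, hxy⟩ := hY'P (Subgroup.mem_comap.mp hy)
        have h1 : x⁻¹ * y ∈ H₀ := by
          rw [← QuotientGroup.eq_one_iff, ← QuotientGroup.mk'_apply, ← hf, map_mul, map_inv, hxy]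
          simp
        have : y = x * (x⁻¹ * y) := by group
        rw [this]
        exact (P : Subgroup G).mul_mem hx (hHP h1)
      have hYp : IsPGroup p Y := P.2.to_le hYP
      have hNY : Subgroup.normalizer (Y : Set G) =
          (Subgroup.normalizer (Y' : Set (G ⧸ H₀))).comap f :=
        (Subgroup.comap_normalizer_eq_of_surjective Y' hfs).symm
      have hPN : (P : Subgroup G) ≤ Subgroup.normalizer (Y : Set G) := by
        intro x hx
        rw [hNY, Subgroup.mem_comap]
        exact hnorm (Subgroup.le_normalizer (Subgroup.mem_map_of_mem f hx))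
      have hne : Subgroup.normalizer (Y : Set G) ≠ ⊤ := by
        intro h
        have hYn : Y.Normal := Subgroup.normalizer_eq_top_iff.mp h
        have hYH := hHmax Y hYn hYp
        apply hY'ne
        rw [← Subgroup.map_comap_eq_self_of_surjective hfs Y', ← hY, Subgroup.map_eq_bot_iff,
          hf, QuotientGroup.ker_mk']
        exact hYH
      have h1 := stepA IH hall _ hne P hPN
      have h2 := pn_map f _ h1
      rwa [hNY, Subgroup.map_comap_eq_self_of_surjective hfs] at h2
    apply IH (G ⧸ H₀) hlt (P.mapSurjective hfs)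
    rw [Sylow.coe_mapSurjective]
    constructor
    · exact key _ (thompsonOf_le _) (thompsonOf_ne_bot hPbp hPb)
        (normalizer_le_normalizer_thompsonOf _)
    · exact pn_of_le (Subgroup.centralizer_le_normalizer _)
        (key _ inf_le_left (ZC_ne_bot hPbp hPb) (normalizer_le_normalizer_ZC _))

end MainC

section MainD
universe u
variable {G : Type u} [Group G] [Finite G] {p : ℕ} [Fact p.Prime]

/-- (D) in a minimal counterexample `O_{p'}(G) = 1` -/
theorem stepD (IH : IHyp p G) (hG : ¬ HasNormalPComplement p G) (P : Sylow p G)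
    (hP : hyp p (P : Subgroup G)) : pPrimeCore p G = ⊥ := by
  by_contra hne
  haveI := Helper81.pPrimeCore_normal (G := G) p
  have hOc : (Nat.card (pPrimeCore p G)).Coprime p := Helper81.card_pPrimeCore_coprime p
  set f := QuotientGroup.mk' (pPrimeCore p G) with hf
  have hfs : Function.Surjective f := QuotientGroup.mk'_surjective _
  have hlt := card_quotient_lt' (pPrimeCore p G) hne
  have hinj : Set.InjOn f ((P : Subgroup G) : Set G) := by
    intro x hx y hy hxy
    have h1 : x⁻¹ * y ∈ (P : Subgroup G) ⊓ pPrimeCore p G :=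
      ⟨(P : Subgroup G).mul_mem ((P : Subgroup G).inv_mem hx) hy, QuotientGroup.eq.mp hxy⟩
    rw [Helper15.isPGroup_inf_coprime_eq_bot P.2 hOc, Subgroup.mem_bot] at h1
    exact inv_mul_eq_one.mp h1
  apply hG
  apply pn_of_quotient_coprime (pPrimeCore p G) hOc
  apply IH (G ⧸ pPrimeCore p G) hlt (P.mapSurjective hfs)
  rw [Sylow.coe_mapSurjective]
  constructor
  · rw [thompsonOf_map f P hinj, Helper15.normalizer_map_mk_of_coprime (pPrimeCore p G) hOc _
      (P.2.to_le (thompsonOf_le _))]
    exact pn_map f _ hP.1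
  · have hZp : IsPGroup p (ZC (P : Subgroup G)) := P.2.to_le inf_le_left
    rw [ZC_map f P hinj, Helper15.centralizer_map_mk_of_coprime (pPrimeCore p G) hOc _ hZp]
    exact pn_map f _ hP.2

end MainD

section MainE
universe u
variable {G : Type u} [Group G] [Finite G] {p : ℕ} [Fact p.Prime]

/-- structure of `G` once `G/H₀` has a normal p-complement -/
theorem exists_K (H₀ : Subgroup G) [H₀.Normal] (P : Sylow p G) (hHP : H₀ ≤ P)
    (hC : HasNormalPComplement p (G ⧸ H₀)) :
    ∃ K : Subgroup G, K.Normal ∧ H₀ ≤ K ∧ K ⊓ P ≤ H₀ ∧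
      (∀ g : G, ∃ k ∈ K, ∃ x ∈ (P : Subgroup G), g = k * x) ∧
      (Nat.card (K.map (QuotientGroup.mk' H₀))).Coprime p ∧ (∃ n : ℕ, K.index = p ^ n) := by
  have hp : p.Prime := Fact.out
  set f := QuotientGroup.mk' H₀ with hf
  have hfs : Function.Surjective f := QuotientGroup.mk'_surjective H₀
  obtain ⟨M, hMn, hMc⟩ := (Helper03.hasNormalPComplement_iff (P.mapSurjective hfs)).mp hC
  rw [Sylow.coe_mapSurjective] at hMc
  have hker : ∀ x : G, f x = 1 ↔ x ∈ H₀ := fun x => QuotientGroup.eq_one_iff x
  refine ⟨M.comap f, hMn.comap f, ?_, ?_, ?_, ?_, ?_⟩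
  · intro x hx
    rw [Subgroup.mem_comap, (hker x).mpr hx]
    exact M.one_mem
  · rintro x ⟨hxK, hxP⟩
    have h1 : f x ∈ M ⊓ (P : Subgroup G).map f :=
      ⟨Subgroup.mem_comap.mp hxK, Subgroup.mem_map_of_mem f hxP⟩
    rw [hMc.disjoint.eq_bot, Subgroup.mem_bot] at h1
    exact (hker x).mp h1
  · intro g
    have h1 : f g ∈ M ⊔ (P : Subgroup G).map f := by
      rw [hMc.sup_eq_top]; exact Subgroup.mem_top _
    rw [Subgroup.mem_sup_of_normal_left] at h1
    obtain ⟨m, hm, y, ⟨x, hx, rfl⟩, hmy⟩ := h1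
    refine ⟨g * x⁻¹, ?_, x, hx, by group⟩
    rw [Subgroup.mem_comap, map_mul, map_inv, ← hmy]
    simpa using hm
  · rw [Subgroup.map_comap_eq_self_of_surjective hfs]
    have h1 := hMc.card_mul_card
    have h2 := (P.mapSurjective hfs).card_eq_multiplicity
    rw [Sylow.coe_mapSurjective] at h2
    rw [h2] at h1
    have hpos : Nat.card (G ⧸ H₀) ≠ 0 := Nat.card_pos.ne'
    have h3 : Nat.card M = Nat.card (G ⧸ H₀) / p ^ (Nat.card (G ⧸ H₀)).factorization p := by
      apply (Nat.div_eq_of_eq_mul_left (pow_pos hp.pos _) h1.symm).symm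
    rw [h3]
    exact (Nat.coprime_ordCompl hp hpos).symm
  · rw [Subgroup.index_comap_of_surjective M hfs]
    have h1 := hMc.symm.index_eq_card
    rw [h1]
    exact IsPGroup.iff_card.mp (P.2.map f)

end MainE

end Cfsg.Agent.Lib.Lead
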