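import Mathlib
import Cfsg.Agent.Lib.Lead.ThompsonA
import Cfsg.Agent.Lib.Helper81.PSolvable
import Cfsg.Agent.Lib.Helper67.PAction
import Cfsg.Agent.Lib.Helper55.CoprimeGen

set_option autoImplicit false
open Cfsg
open Cfsg.Agent.Lib.Helper02 Cfsg.Agent.Lib.Helper97

namespace Cfsg.Agent.Lib.Lead

section E
universe u
variable {G : Type u} [Group G] [Finite G] {p : ℕ} [Fact p.Prime]

theorem card_map_mk_eq_relIndex (H₀ K : Subgroup G) [H₀.Normal] (hHK : H₀ ≤ K) :
    Nat.card (K.map (QuotientGroup.mk' H₀)) = H₀.relIndex K := by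
  have h1 := Helper81.card_comap_mk' H₀ (K.map (QuotientGroup.mk' H₀))
  have h2 : (K.map (QuotientGroup.mk' H₀)).comap (QuotientGroup.mk' H₀) = K := by
    rw [Subgroup.comap_map_eq, QuotientGroup.ker_mk', sup_of_le_left hHK]
  rw [h2] at h1
  have h3 := Helper74.relIndex_mul_card_of_le' hHK
  have hpos : 0 < Nat.card H₀ := Nat.card_pos
  nlinarith

/-- (E0) `C_G(O_p(G)) ≤ O_p(G)` -/
theorem stepE0 (H₀ : Subgroup G) [H₀.Normal] (hHp : IsPGroup p H₀)
    (hHmax : ∀ X : Subgroup G, X.Normal → IsPGroup p X → X ≤ H₀)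
    (hO : pPrimeCore p G = ⊥)
    (K : Subgroup G) [K.Normal] (hHK : H₀ ≤ K) (hKc : (H₀.relIndex K).Coprime p)
    (hKi : ∃ n : ℕ, K.index = p ^ n) :
    Subgroup.centralizer (H₀ : Set G) ≤ H₀ := by
  have hp : p.Prime := Fact.out
  set C := Subgroup.centralizer (H₀ : Set G) with hC
  haveI : C.Normal := Subgroup.normal_centralizer
  set D := C ⊓ K with hD
  haveI : D.Normal := inferInstance
  have hZp : IsPGroup p (H₀.subgroupOf D) := hHp.comap_subtype
  have hZi : ¬ p ∣ (H₀.subgroupOf D).index := by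
    have h1 : H₀.relIndex D ∣ H₀.relIndex K :=
      Helper81.relIndex_dvd_relIndex_of_normal H₀ D K inf_le_right
    intro h2
    have h3 : p ∣ H₀.relIndex K := h2.trans h1
    exact (hp.coprime_iff_not_dvd.mp hKc.symm) h3
  have hcent : Subgroup.normalizer (((hZp.toSylow hZi : Sylow p ↥D) : Subgroup ↥D) : Set ↥D) ≤
      Subgroup.centralizer (((hZp.toSylow hZi : Sylow p ↥D) : Subgroup ↥D) : Set ↥D) := by
    intro x _
    rw [Subgroup.mem_centralizer_iff]
    intro z hz
    have hz' : (z : G) ∈ H₀ := hz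
    have hx : (x : G) ∈ C := x.2.1
    rw [hC, Subgroup.mem_centralizer_iff] at hx
    exact Subtype.ext (hx z hz')
  have hPN : HasNormalPComplement p ↥D :=
    Helper03.hasNormalPComplement_of_normalizer_le_centralizer _ hcent
  have hDp : IsPGroup p D := isPGroup_of_pn_of_normal D hPN hO
  have hCp : IsPGroup p C := by
    rintro ⟨x, hx⟩
    obtain ⟨n, hn⟩ := hKi
    have h1 : x ^ (p ^ n) ∈ K := by
      rw [← hn]
      exact Subgroup.pow_index_mem K x
    have h2 : x ^ p ^ n ∈ D := ⟨C.pow_mem hx _, h1⟩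
    obtain ⟨m, hm⟩ := hDp ⟨_, h2⟩
    refine ⟨n + m, Subtype.ext ?_⟩
    have h3 : (x ^ p ^ n) ^ p ^ m = 1 := by
      have := congrArg Subtype.val hm
      simpa using this
    simp only [SubmonoidClass.mk_pow, OneMemClass.coe_one]
    rw [pow_add, pow_mul]
    exact h3
  exact hHmax C inferInstance hCp

end E

section E1
universe u
variable {G : Type u} [Group G] [Finite G] {p : ℕ} [Fact p.Prime]

/-- a p-subgroup between `H₀` and `K` equals `H₀` -/
theorem eq_of_isPGroup_between (H₀ K L : Subgroup G) (hKc : (H₀.relIndex K).Coprime p)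
    (hHL : H₀ ≤ L) (hLK : L ≤ K) (hL : IsPGroup p L) : L = H₀ := by
  have hp : p.Prime := Fact.out
  apply le_antisymm _ hHL
  rw [← Subgroup.relIndex_eq_one]
  have h1 : H₀.relIndex L ∣ H₀.relIndex K := Dvd.intro _ (Subgroup.relIndex_mul_relIndex H₀ L K hHL hLK)
  have h2 := Helper74.relIndex_mul_card_of_le' hHL
  obtain ⟨a, ha⟩ := IsPGroup.iff_card.mp hL
  have h3 : H₀.relIndex L ∣ p ^ a := by
    rw [← ha, ← h2]; exact dvd_mul_right _ _
  obtain ⟨i, -, hi⟩ := (Nat.dvd_prime_pow hp).mp h3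
  rcases Nat.eq_zero_or_pos i with h0 | h0
  · rw [hi, h0, pow_zero]
  · exfalso
    have h4 : p ∣ H₀.relIndex K := (hi ▸ dvd_pow_self p h0.ne').trans h1
    exact (hp.coprime_iff_not_dvd.mp hKc.symm) h4

/-- (E1) a `P`-invariant subgroup between `H₀` and `K` is `H₀` or `K` -/
theorem stepE1 (IH : IHyp p G) (hall : ∀ P' : Sylow p G, hyp p (P' : Subgroup G))
    (H₀ : Subgroup G) [H₀.Normal] (hHp : IsPGroup p H₀)
    (hCH : Subgroup.centralizer (H₀ : Set G) ≤ H₀) (P : Sylow p G)
    (K : Subgroup G) (hKP : K ⊓ P ≤ H₀) (hKc : (H₀.relIndex K).Coprime p)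
    (L : Subgroup G) (hHL : H₀ ≤ L) (hLK : L ≤ K)
    (hPL : (P : Subgroup G) ≤ Subgroup.normalizer (L : Set G)) :
    L = H₀ ∨ L = K := by
  have hp : p.Prime := Fact.out
  by_cases hM : L ⊔ (P : Subgroup G) = ⊤
  · right
    apply le_antisymm hLK
    intro k hk
    have hkM : k ∈ L ⊔ (P : Subgroup G) := by rw [hM]; exact Subgroup.mem_top _
    rw [sup_comm] at hkM
    obtain ⟨x, hx, l, hl, rfl⟩ := Helper67.mem_sup_of_le_normalizer hPL hkM
    have hxK : x ∈ K := by
      have : x = (x * l) * l⁻¹ := by group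
      rw [this]
      exact K.mul_mem hk (K.inv_mem (hLK hl))
    exact L.mul_mem (hHL (hKP ⟨hxK, hx⟩)) hl
  · left
    set M := L ⊔ (P : Subgroup G) with hMdef
    have hPN : HasNormalPComplement p ↥M := stepA IH hall M hM P le_sup_right
    obtain ⟨D, hD⟩ := (Helper74.hasNormalPComplement_iff_exists_isNPC M).mp hPN
    have hHM : H₀ ≤ M := hHL.trans le_sup_left
    have hDbot : D = ⊥ := by
      have hinf : H₀ ⊓ D = ⊥ := Helper15.isPGroup_inf_coprime_eq_bot hHp hD.cop
      rw [eq_bot_iff]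
      intro d hd
      have hdC : d ∈ Subgroup.centralizer (H₀ : Set G) := by
        rw [Subgroup.mem_centralizer_iff]
        intro h hh
        have h1 : d * h * d⁻¹ * h⁻¹ ∈ H₀ ⊓ D := by
          constructor
          · exact H₀.mul_mem (‹H₀.Normal›.conj_mem h hh d) (H₀.inv_mem hh)
          · have hn := hD.norm (hHM hh)
            have h2 : h * d⁻¹ * h⁻¹ ∈ D :=
              (Subgroup.mem_normalizer_iff.mp hn d⁻¹).mp (D.inv_mem hd)
            have : d * h * d⁻¹ * h⁻¹ = d * (h * d⁻¹ * h⁻¹) := by group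
            rw [this]
            exact D.mul_mem hd h2
        rw [hinf, Subgroup.mem_bot] at h1
        have : h * d = (d * h * d⁻¹ * h⁻¹)⁻¹ * (d * h) := by group
        rw [this, h1]
        simp
      have : d ∈ H₀ ⊓ D := ⟨hCH hdC, hd⟩
      rwa [hinf] at this
    have hMp : IsPGroup p M := by
      obtain ⟨j, hj⟩ := hD.idx
      rw [hDbot, Subgroup.relIndex_bot_left] at hj
      exact IsPGroup.of_card hj
    exact eq_of_isPGroup_between H₀ K L hKc hHL hLK (hMp.to_le le_sup_left)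

end E1

section E2
universe u
variable {G : Type u} [Group G] [Finite G] {p : ℕ} [Fact p.Prime]

/-- (E2) `K/H₀` is abelian -/
theorem stepE2 (H₀ : Subgroup G) [H₀.Normal] (P : Sylow p G)
    (K : Subgroup G) [K.Normal] (hHK : H₀ ≤ K)
    (hKc : (Nat.card (K.map (QuotientGroup.mk' H₀))).Coprime p)
    (hE1 : ∀ L : Subgroup G, H₀ ≤ L → L ≤ K →
      (P : Subgroup G) ≤ Subgroup.normalizer (L : Set G) → L = H₀ ∨ L = K) :
    ∀ x ∈ K.map (QuotientGroup.mk' H₀), ∀ y ∈ K.map (QuotientGroup.mk' H₀), x * y = y * x := by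
  classical
  have hp : p.Prime := Fact.out
  set f := QuotientGroup.mk' H₀ with hf
  have hfs : Function.Surjective f := QuotientGroup.mk'_surjective H₀
  set Kb := K.map f with hKb
  haveI hKbn : Kb.Normal := ‹K.Normal›.map f hfs
  have hcomapK : Kb.comap f = K := by
    rw [hKb, Subgroup.comap_map_eq, hf, QuotientGroup.ker_mk', sup_of_le_left hHK]
  -- E1 in the quotient
  have hE1' : ∀ L' : Subgroup (G ⧸ H₀), L' ≤ Kb →
      (P : Subgroup G).map f ≤ Subgroup.normalizer (L' : Set (G ⧸ H₀)) → L' = ⊥ ∨ L' = Kb := by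
    intro L' hL'K hPL'
    have h1 : H₀ ≤ L'.comap f := by
      intro x hx
      rw [Subgroup.mem_comap, hf, QuotientGroup.mk'_apply, (QuotientGroup.eq_one_iff x).mpr hx]
      exact L'.one_mem
    have h2 : L'.comap f ≤ K := by
      rw [← hcomapK]; exact Subgroup.comap_mono hL'K
    have h3 : (P : Subgroup G) ≤ Subgroup.normalizer ((L'.comap f : Subgroup G) : Set G) := by
      rw [← Subgroup.comap_normalizer_eq_of_surjective L' hfs]
      intro x hx
      exact hPL' (Subgroup.mem_map_of_mem f hx)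
    rcases hE1 _ h1 h2 h3 with h | h
    · left
      rw [← Subgroup.map_comap_eq_self_of_surjective hfs L', h, Subgroup.map_eq_bot_iff, hf,
        QuotientGroup.ker_mk']
    · right
      rw [← Subgroup.map_comap_eq_self_of_surjective hfs L', h]
  by_cases hKbot : Kb = ⊥
  · intro x hx y hy
    rw [hKbot, Subgroup.mem_bot] at hx hy
    rw [hx, hy]
  -- a prime q dividing |Kb|
  have hcard : Nat.card Kb ≠ 1 := fun h => hKbot (Subgroup.card_eq_one.mp h)
  obtain ⟨q, hq, hqd⟩ := Nat.exists_prime_and_dvd hcard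
  haveI : Fact q.Prime := ⟨hq⟩
  have hPbp : IsPGroup p ((P : Subgroup G).map f) := P.2.map f
  have hPbN : (P : Subgroup G).map f ≤ Subgroup.normalizer (Kb : Set (G ⧸ H₀)) := by
    rw [Subgroup.normalizer_eq_top_iff.mpr hKbn]; exact le_top
  obtain ⟨T, hT, hPT⟩ := Helper55.exists_invariant_isSylowIn hPbp hPbN hKc q
  have hTne : T ≠ ⊥ := by
    intro hTb
    obtain ⟨x, hx⟩ := exists_prime_orderOf_dvd_card' (G := ↥Kb) q hqd
    have hxq : IsPGroup q (Subgroup.zpowers (x : G ⧸ H₀)) := by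
      apply IsPGroup.of_card (n := 1)
      rw [Nat.card_zpowers, Subgroup.orderOf_coe, hx, pow_one]
    have hxK : Subgroup.zpowers (x : G ⧸ H₀) ≤ Kb := by
      rw [Subgroup.zpowers_le]; exact x.2
    have := hT.2.2 _ hxK hxq (hTb ▸ bot_le)
    rw [hTb, Subgroup.zpowers_eq_bot] at this
    have hx1 : x = 1 := Subtype.ext this
    rw [hx1, orderOf_one] at hx
    exact hq.one_lt.ne hx
  have hTK : T = Kb := by
    rcases hE1' T hT.1 hPT with h | h
    · exact absurd h hTne
    · exact h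
  have hKq : IsPGroup q Kb := hTK ▸ hT.2.1
  -- the centre
  set Zb := Kb ⊓ Subgroup.centralizer (Kb : Set (G ⧸ H₀)) with hZb
  haveI : (Subgroup.centralizer (Kb : Set (G ⧸ H₀))).Normal := Subgroup.normal_centralizer
  haveI : Zb.Normal := inferInstance
  have hZne : Zb ≠ ⊥ := by
    haveI : Nontrivial ↥Kb := by
      rw [Subgroup.nontrivial_iff_ne_bot]; exact hKbot
    haveI : Finite ↥Kb := inferInstance
    haveI : Nontrivial (Subgroup.center ↥Kb) := hKq.center_nontrivial
    obtain ⟨z, hz1⟩ := exists_ne (1 : Subgroup.center ↥Kb)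
    intro hb
    apply hz1
    have hmem : ((z : ↥Kb) : G ⧸ H₀) ∈ Zb := by
      refine ⟨(z : ↥Kb).2, ?_⟩
      show ((z : ↥Kb) : G ⧸ H₀) ∈ Subgroup.centralizer (Kb : Set (G ⧸ H₀))
      rw [Subgroup.mem_centralizer_iff]
      intro y hy
      have := Subgroup.mem_center_iff.mp z.2 ⟨y, hy⟩
      exact congrArg Subtype.val this
    rw [hb, Subgroup.mem_bot] at hmem
    exact Subtype.ext (Subtype.ext hmem)
  have hZK : Zb = Kb := by
    rcases hE1' Zb inf_le_left (by
      rw [Subgroup.normalizer_eq_top_iff.mpr ‹Zb.Normal›]; exact le_top) with h | h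
    · exact absurd h hZne
    · exact h
  intro x hx y hy
  have hx' : x ∈ Zb := hZK ▸ hx
  exact (Subgroup.mem_centralizer_iff.mp hx'.2 y hy).symm

end E2

section Omega
variable {G : Type*} [Group G]

/-- `Ω₁(W)` for a commutative subgroup `W` -/
def omega1 (p : ℕ) (W : Subgroup G) (hWc : ∀ x ∈ W, ∀ y ∈ W, x * y = y * x) : Subgroup G where
  carrier := {w | w ∈ W ∧ w ^ p = 1}
  mul_mem' := by
    rintro a b ⟨ha, ha'⟩ ⟨hb, hb'⟩
    have hcomm : Commute a b := hWc a ha b hb
    exact ⟨W.mul_mem ha hb, by rw [hcomm.mul_pow, ha', hb', one_mul]⟩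
  one_mem' := ⟨W.one_mem, one_pow _⟩
  inv_mem' := by
    rintro a ⟨ha, ha'⟩
    exact ⟨W.inv_mem ha, by rw [inv_pow, ha', inv_one]⟩

theorem mem_omega1 {p : ℕ} {W : Subgroup G} {hWc : ∀ x ∈ W, ∀ y ∈ W, x * y = y * x} {w : G} :
    w ∈ omega1 p W hWc ↔ w ∈ W ∧ w ^ p = 1 := Iff.rfl

instance omega1_normal {p : ℕ} {W : Subgroup G} [hW : W.Normal]
    {hWc : ∀ x ∈ W, ∀ y ∈ W, x * y = y * x} : (omega1 p W hWc).Normal := by
  constructor
  rintro w ⟨hw, hw'⟩ g
  refine ⟨hW.conj_mem w hw g, ?_⟩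
  rw [conj_pow, hw']
  group

/-- a `p'`-element normalising the abelian `p`-group `W` and centralising `Ω₁(W)` centralises `W` -/
theorem centralizes_of_centralizes_omega {p : ℕ} [Fact p.Prime] (W : Subgroup G)
    (hWc : ∀ x ∈ W, ∀ y ∈ W, x * y = y * x) (hWp : IsPGroup p W)
    (g : G) (hgW : ∀ w ∈ W, g * w * g⁻¹ ∈ W) (hg : (orderOf g).Coprime p)
    (hcent : ∀ w ∈ W, w ^ p = 1 → g * w = w * g) : ∀ w ∈ W, g * w = w * g := by
  have hp : p.Prime := Fact.out
  have key : ∀ k : ℕ, ∀ w ∈ W, w ^ p ^ k = 1 → g * w = w * g := by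
    intro k
    induction k with
    | zero =>
      intro w _ hw1
      rw [pow_zero, pow_one] at hw1
      rw [hw1]; simp
    | succ k ih =>
      intro w hw hwk
      have hwp : g * w ^ p = w ^ p * g := by
        apply ih _ (W.pow_mem hw p)
        rw [← pow_mul, ← pow_succ']
        exact hwk
      set c := g * w * g⁻¹ * w⁻¹ with hc
      have hcW : c ∈ W := W.mul_mem (hgW w hw) (W.inv_mem hw)
      have hcp : c ^ p = 1 := by
        have hcomm : Commute (g * w * g⁻¹) w⁻¹ := hWc _ (hgW w hw) _ (W.inv_mem hw)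
        rw [hc, hcomm.mul_pow, conj_pow, inv_pow]
        have : g * w ^ p * g⁻¹ = w ^ p := by rw [hwp]; group
        rw [this]; simp
      have hgc : g * c = c * g := hcent c hcW hcp
      have hgw : g * w * g⁻¹ = c * w := by rw [hc]; group
      have hiter : ∀ n : ℕ, g ^ n * w * (g ^ n)⁻¹ = c ^ n * w := by
        intro n
        induction n with
        | zero => simp
        | succ n ihn =>
          have h1 : g ^ (n + 1) * w * (g ^ (n + 1))⁻¹ = g * (g ^ n * w * (g ^ n)⁻¹) * g⁻¹ := by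
            rw [pow_succ']; group
          have hgcn : g * c ^ n * g⁻¹ = c ^ n := by
            have : Commute g (c ^ n) := (show Commute g c from hgc).pow_right n
            rw [this.eq]; group
          rw [h1, ihn]
          calc g * (c ^ n * w) * g⁻¹ = (g * c ^ n * g⁻¹) * (g * w * g⁻¹) := by group
            _ = c ^ n * (c * w) := by rw [hgcn, hgw]
            _ = c ^ (n + 1) * w := by rw [pow_succ]; group
      have hm := hiter (orderOf g)
      rw [pow_orderOf_eq_one] at hm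
      have hcm : c ^ orderOf g = 1 := by
        have : w = c ^ orderOf g * w := by simpa using hm
        exact mul_eq_right.mp this.symm |>.symm ▸ rfl
      have hc1 : c = 1 := by
        have h1 : orderOf c ∣ orderOf g := orderOf_dvd_of_pow_eq_one hcm
        have h2 : orderOf c ∣ p := orderOf_dvd_of_pow_eq_one hcp
        have h3 : orderOf c ∣ Nat.gcd (orderOf g) p := Nat.dvd_gcd h1 h2
        rw [hg] at h3
        exact orderOf_eq_one_iff.mp (Nat.dvd_one.mp h3)
      rw [hc1, one_mul] at hgw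
      calc g * w = (g * w * g⁻¹) * g := by group
        _ = w * g := by rw [hgw]
  intro w hw
  obtain ⟨k, hk⟩ := hWp ⟨w, hw⟩
  apply key k w hw
  have := congrArg Subtype.val hk
  simpa using this

end Omega

section EU
universe u
variable {G : Type u} [Group G] [Finite G] {p : ℕ} [Fact p.Prime]

/-- (E3)+(E4) the elementary abelian normal subgroup `U = Ω₁(⟨Z(P)^G⟩)` with `C_G(U) = H₀` -/
theorem exists_U (H₀ : Subgroup G) [H₀.Normal] (hHp : IsPGroup p H₀)
    (hHmax : ∀ X : Subgroup G, X.Normal → IsPGroup p X → X ≤ H₀)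
    (hO : pPrimeCore p G = ⊥)
    (hCH : Subgroup.centralizer (H₀ : Set G) ≤ H₀) (P : Sylow p G) (hHP : H₀ ≤ P)
    (hZ : HasNormalPComplement p ↥(Subgroup.centralizer (ZC (P : Subgroup G) : Set G))) :
    ∃ U : Subgroup G, U.Normal ∧ IsElementaryAbelian p U ∧ U ≤ H₀ ∧
      H₀ ≤ Subgroup.centralizer (U : Set G) ∧ Subgroup.centralizer (U : Set G) ≤ H₀ := by
  classical
  have hp : p.Prime := Fact.out
  haveI : (Subgroup.centralizer (H₀ : Set G)).Normal := Subgroup.normal_centralizer
  set Z₀ := H₀ ⊓ Subgroup.centralizer (H₀ : Set G) with hZ₀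
  haveI : Z₀.Normal := inferInstance
  set W := Subgroup.normalClosure (ZC (P : Subgroup G) : Set G) with hW
  haveI hWn : W.Normal := Subgroup.normalClosure_normal
  have hZCle : ZC (P : Subgroup G) ≤ Z₀ := by
    intro z hz
    have h1 : z ∈ Subgroup.centralizer (H₀ : Set G) :=
      Subgroup.centralizer_le (by exact_mod_cast hHP) hz.2
    exact ⟨hCH h1, h1⟩
  have hWZ : W ≤ Z₀ := Subgroup.normalClosure_le_normal hZCle
  have hWc : ∀ x ∈ W, ∀ y ∈ W, x * y = y * x := by
    intro x hx y hy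
    have h1 : y ∈ Subgroup.centralizer (H₀ : Set G) := (hWZ hy).2
    rw [Subgroup.mem_centralizer_iff] at h1
    exact h1 x (hWZ hx).1
  have hWp : IsPGroup p W := hHp.to_le (hWZ.trans inf_le_left)
  have hCW : Subgroup.centralizer (W : Set G) ≤ H₀ := by
    haveI : (Subgroup.centralizer (W : Set G)).Normal := Subgroup.normal_centralizer
    have h1 : Subgroup.centralizer (W : Set G) ≤ Subgroup.centralizer (ZC (P : Subgroup G) : Set G) :=
      Subgroup.centralizer_le Subgroup.subset_normalClosure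
    have h2 := pn_of_le h1 hZ
    exact hHmax _ inferInstance (isPGroup_of_pn_of_normal _ h2 hO)
  refine ⟨omega1 p W hWc, inferInstance, ?_, ?_, ?_, ?_⟩
  · refine ⟨⟨⟨?_⟩⟩, fun a ha => ha.2⟩
    rintro ⟨a, ha⟩ ⟨b, hb⟩
    exact Subtype.ext (hWc a ha.1 b hb.1)
  · exact fun u hu => (hWZ hu.1).1
  · intro h hh
    rw [Subgroup.mem_centralizer_iff]
    intro u hu
    have h1 : u ∈ Subgroup.centralizer (H₀ : Set G) := (hWZ hu.1).2
    rw [Subgroup.mem_centralizer_iff] at h1
    exact (h1 h hh).symm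
  · haveI : (Subgroup.centralizer ((omega1 p W hWc : Subgroup G) : Set G)).Normal :=
      Subgroup.normal_centralizer
    apply hHmax _ inferInstance
    rintro ⟨x, hx⟩
    obtain ⟨k, m, hm, hkm⟩ :=
      Nat.exists_eq_pow_mul_and_not_dvd (orderOf_pos x).ne' p hp.ne_one
    refine ⟨k, Subtype.ext ?_⟩
    simp only [SubmonoidClass.mk_pow, OneMemClass.coe_one]
    set y := x ^ p ^ k with hy
    have hyC : y ∈ Subgroup.centralizer ((omega1 p W hWc : Subgroup G) : Set G) :=
      Subgroup.pow_mem _ hx _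
    have hym : y ^ m = 1 := by
      rw [hy, ← pow_mul, ← hkm, pow_orderOf_eq_one]
    have hyo : (orderOf y).Coprime p := by
      have h1 : orderOf y ∣ m := orderOf_dvd_of_pow_eq_one hym
      exact Nat.Coprime.coprime_dvd_left h1 ((hp.coprime_iff_not_dvd.mpr hm).symm)
    have hyW : y ∈ Subgroup.centralizer (W : Set G) := by
      rw [Subgroup.mem_centralizer_iff]
      intro w hw
      refine (centralizes_of_centralizes_omega W hWc hWp y (fun w hw => hWn.conj_mem w hw y) hyo ?_
        w hw).symm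
      intro w hw hwp
      rw [Subgroup.mem_centralizer_iff] at hyC
      exact (hyC w ⟨hw, hwp⟩).symm
    have hyH : y ∈ H₀ := hCW hyW
    obtain ⟨j, hj⟩ := hHp ⟨y, hyH⟩
    have hj' : y ^ p ^ j = 1 := by
      have := congrArg Subtype.val hj
      simpa using this
    have h1 : orderOf y ∣ p ^ j := orderOf_dvd_of_pow_eq_one hj'
    have h2 : orderOf y ∣ 1 := by
      have := Nat.Coprime.dvd_of_dvd_mul_right (hyo.pow_right j) (by simpa using h1 : orderOf y ∣ 1 * p ^ j)
      exact this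
    exact orderOf_eq_one_iff.mp (Nat.dvd_one.mp h2)

end EU

end Cfsg.Agent.Lib.Lead
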