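import Mathlib
import Cfsg.Agent.Lib.Lead.ThompsonE
import Cfsg.Agent.Lib.Helper04.ThompsonNorm
import Cfsg.Agent.S0607

set_option autoImplicit false
open Cfsg
open Cfsg.Agent.Lib.Helper02 Cfsg.Agent.Lib.Helper97
open scoped commutatorElement

namespace Cfsg.Agent.Lib.Lead

section F
universe u
variable {G : Type u} [Group G] [Finite G] {p : ℕ} [Fact p.Prime]

/-- (E6) replacement gives an element of order dividing `p` of `P`, quadratic and nontrivial on `U` -/
theorem exists_b (P : Sylow p G) (U : Subgroup G) [U.Normal] (hU : IsElementaryAbelian p U)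
    (hUP : U ≤ P)
    (hJ : ¬ thompsonSubgroupOf p (P : Subgroup G) ≤ Subgroup.centralizer (U : Set G)) :
    ∃ b ∈ (P : Subgroup G), b ^ p = 1 ∧ b ∉ Subgroup.centralizer (U : Set G) ∧
      ∀ u ∈ U, b * (u * b * u⁻¹ * b⁻¹) = (u * b * u⁻¹ * b⁻¹) * b := by
  classical
  obtain ⟨A, hA, hAU⟩ := exists_maxEA_not_le hJ
  set V : Subgroup ↥(P : Subgroup G) := U.subgroupOf (P : Subgroup G) with hV
  haveI : V.Normal := Subgroup.normal_subgroupOf
  have hVea : IsElementaryAbelian p V := by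
    obtain ⟨hc, hpow⟩ := hU
    refine ⟨⟨⟨?_⟩⟩, ?_⟩
    · rintro ⟨a, ha⟩ ⟨b, hb⟩
      have h1 : (⟨(a : G), ha⟩ : ↥U) * ⟨(b : G), hb⟩ = ⟨(b : G), hb⟩ * ⟨(a : G), ha⟩ :=
        hc.is_comm.comm _ _
      apply Subtype.ext
      apply Subtype.ext
      have := congrArg Subtype.val h1
      simpa using this
    · intro a ha
      apply Subtype.ext
      have := hpow (a : G) ha
      simpa using this
  obtain ⟨hA₀, hquad, hne⟩ := Cfsg.Agent.S0607.result V hVea A hA
  set A₀ := ⁅V, A⁆ ⊔ (A ⊓ Subgroup.centralizer ((⁅V, A⁆ : Subgroup ↥(P : Subgroup G)) : Set ↥(P : Subgroup G)))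
    with hA₀def
  -- [V, A] ≠ ⊥
  have hVA : ⁅V, A⁆ ≠ ⊥ := by
    intro hbot
    apply hAU
    rintro _ ⟨a, ha, rfl⟩
    rw [Subgroup.mem_centralizer_iff]
    intro u hu
    have hcomm := Subgroup.commutator_eq_bot_iff_le_centralizer.mp hbot
    have huV : (⟨u, hUP hu⟩ : ↥(P : Subgroup G)) ∈ V := by
      rw [hV, Subgroup.mem_subgroupOf]; exact hu
    have h1 := Subgroup.mem_centralizer_iff.mp (hcomm huV) a ha
    have := congrArg Subtype.val h1
    simpa using this.symm
  have hVA₀ := hne hVA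
  -- extract b
  have hnle : ¬ V ≤ Subgroup.centralizer (A₀ : Set ↥(P : Subgroup G)) := fun h =>
    hVA₀ (Subgroup.commutator_eq_bot_iff_le_centralizer.mpr h)
  rw [SetLike.not_le_iff_exists] at hnle
  obtain ⟨v, hvV, hvC⟩ := hnle
  rw [Subgroup.mem_centralizer_iff] at hvC
  push Not at hvC
  obtain ⟨b, hbA₀, hbv⟩ := hvC
  have hquad' : ⁅V, A₀⁆ ≤ Subgroup.centralizer (A₀ : Set ↥(P : Subgroup G)) :=
    Subgroup.commutator_eq_bot_iff_le_centralizer.mp hquad
  refine ⟨(b : G), b.2, ?_, ?_, ?_⟩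
  · have := hA₀.1.2 b hbA₀
    have := congrArg Subtype.val this
    simpa using this
  · intro hbC
    rw [Subgroup.mem_centralizer_iff] at hbC
    apply hbv
    apply Subtype.ext
    have hvU : (v : G) ∈ U := by
      rw [hV, Subgroup.mem_subgroupOf] at hvV; exact hvV
    have := hbC (v : G) hvU
    simpa using this.symm
  · intro u hu
    have huV : (⟨u, hUP hu⟩ : ↥(P : Subgroup G)) ∈ V := by
      rw [hV, Subgroup.mem_subgroupOf]; exact hu
    have h1 : ⁅(⟨u, hUP hu⟩ : ↥(P : Subgroup G)), b⁆ ∈ ⁅V, A₀⁆ :=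
      Subgroup.commutator_mem_commutator huV hbA₀
    have h2 := Subgroup.mem_centralizer_iff.mp (hquad' h1) b hbA₀
    have h3 := congrArg Subtype.val h2
    rw [commutatorElement_def] at h3
    simpa using h3

end F

section E7
universe u
variable {G : Type u} [Group G] [Finite G] {p : ℕ} [Fact p.Prime]

open scoped IsMulCommutative in
/-- (E7) the quadratic element lies in `H₀` -/
theorem stepE7 (hp2 : p ≠ 2) (H₀ : Subgroup G) [H₀.Normal] (hHp : IsPGroup p H₀)
    (hHmax : ∀ X : Subgroup G, X.Normal → IsPGroup p X → X ≤ H₀) (P : Sylow p G)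
    (K : Subgroup G) [K.Normal] (hKc : (Nat.card (K.map (QuotientGroup.mk' H₀))).Coprime p)
    (hKab : ∀ x ∈ K.map (QuotientGroup.mk' H₀), ∀ y ∈ K.map (QuotientGroup.mk' H₀), x * y = y * x)
    (hKP : ∀ g : G, ∃ k ∈ K, ∃ x ∈ (P : Subgroup G), g = k * x)
    (U : Subgroup G) [U.Normal] (hU : IsElementaryAbelian p U)
    (hHU : H₀ ≤ Subgroup.centralizer (U : Set G)) (hUH : Subgroup.centralizer (U : Set G) ≤ H₀)
    (b : G) (hbP : b ∈ (P : Subgroup G)) (hbp : b ^ p = 1)
    (hbq : ∀ u ∈ U, b * (u * b * u⁻¹ * b⁻¹) = (u * b * u⁻¹ * b⁻¹) * b) : b ∈ H₀ := by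
  classical
  set f := QuotientGroup.mk' H₀ with hf
  have hfs : Function.Surjective f := QuotientGroup.mk'_surjective H₀
  haveI : IsMulCommutative ↥U := hU.1
  let a₀ : G →* MulAut ↥U := MulAut.conjNormal
  have hker : H₀ ≤ a₀.ker := by
    intro x hx
    rw [MonoidHom.mem_ker]
    ext u
    have h1 := Subgroup.mem_centralizer_iff.mp (hHU hx) (u : G) u.2
    rw [MulAut.conjNormal_apply]
    simp only [MulAut.one_apply]
    calc x * (u : G) * x⁻¹ = ((u : G) * x) * x⁻¹ := by rw [h1]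
      _ = u := by group
  let a : G ⧸ H₀ →* MulAut ↥U := QuotientGroup.lift H₀ a₀ hker
  have ha_mk : ∀ g : G, a (f g) = a₀ g := fun g => rfl
  have ha : Function.Injective a := by
    rw [injective_iff_map_eq_one]
    intro x hx
    obtain ⟨g, rfl⟩ := hfs x
    rw [ha_mk] at hx
    rw [hf, QuotientGroup.mk'_apply, QuotientGroup.eq_one_iff]
    apply hUH
    rw [Subgroup.mem_centralizer_iff]
    intro u hu
    have h1 : a₀ g ⟨u, hu⟩ = ⟨u, hu⟩ := by rw [hx]; rfl
    have h2 := congrArg Subtype.val h1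
    rw [MulAut.conjNormal_apply] at h2
    simp only at h2
    calc u * g = (g * u * g⁻¹) * g := by rw [h2]
      _ = g * u := by group
  have hV : ∀ v : ↥U, v ^ p = 1 := fun v => Subtype.ext (by simpa using hU.2 v v.2)
  haveI hKn : (K.map f).Normal := ‹K.Normal›.map f hfs
  have hβ : (f b) ^ p = 1 := by rw [← map_pow, hbp, map_one]
  have hquad : ∀ v : ↥U, a (f b) (a (f b) v * v⁻¹) = a (f b) v * v⁻¹ := by
    intro v
    rw [ha_mk]
    apply Subtype.ext
    have hav : ∀ w : ↥U, ((a₀ b w : ↥U) : G) = b * (w : G) * b⁻¹ := fun w =>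
      MulAut.conjNormal_apply b w
    rw [hav]
    simp only [Subgroup.coe_mul, Subgroup.coe_inv, hav]
    have hc := hbq (v : G) v.2
    set c := (v : G) * b * (v : G)⁻¹ * b⁻¹ with hcdef
    have h1 : b * (v : G) * b⁻¹ * (v : G)⁻¹ = c⁻¹ := by rw [hcdef]; group
    rw [h1]
    have h2 : Commute b c⁻¹ := (show Commute b c from hc).inv_right
    calc b * c⁻¹ * b⁻¹ = (c⁻¹ * b) * b⁻¹ := by rw [h2.eq]
      _ = c⁻¹ := by group
  have hcent := Helper04.quadratic_centralizes hp2 a ha hV (K.map f) hKab hKc (f b) hβ hquad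
  -- the subgroup Y
  haveI : (Subgroup.centralizer ((K.map f : Subgroup (G ⧸ H₀)) : Set (G ⧸ H₀))).Normal :=
    Subgroup.normal_centralizer
  set Y := (P : Subgroup G).map f ⊓
    Subgroup.centralizer ((K.map f : Subgroup (G ⧸ H₀)) : Set (G ⧸ H₀)) with hY
  have hYn : Y.Normal := by
    constructor
    intro y hy g
    obtain ⟨g0, rfl⟩ := hfs g
    obtain ⟨k, hk, x, hx, rfl⟩ := hKP g0
    have hy' : f x * y * (f x)⁻¹ ∈ Y := by
      refine ⟨?_, ?_⟩
      · exact Subgroup.mul_mem _ (Subgroup.mul_mem _ (Subgroup.mem_map_of_mem f hx) hy.1)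
          (Subgroup.inv_mem _ (Subgroup.mem_map_of_mem f hx))
      · exact ‹(Subgroup.centralizer ((K.map f : Subgroup (G ⧸ H₀)) : Set (G ⧸ H₀))).Normal›.conj_mem
          y hy.2 (f x)
    have h1 : f (k * x) * y * (f (k * x))⁻¹ = f k * (f x * y * (f x)⁻¹) * (f k)⁻¹ := by
      rw [map_mul]; group
    rw [h1]
    have h2 := Subgroup.mem_centralizer_iff.mp hy'.2 (f k) (Subgroup.mem_map_of_mem f hk)
    have h3 : f k * (f x * y * (f x)⁻¹) * (f k)⁻¹ = f x * y * (f x)⁻¹ := by
      rw [h2]; group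
    rw [h3]
    exact hy'
  have hYp : IsPGroup p Y := (P.2.map f).to_le inf_le_left
  have hYc : IsPGroup p (Y.comap f) := by
    apply hYp.comap_of_ker_isPGroup f
    rw [hf, QuotientGroup.ker_mk']
    exact hHp
  have hYH : Y.comap f ≤ H₀ := hHmax _ (hYn.comap f) hYc
  apply hYH
  rw [Subgroup.mem_comap]
  refine ⟨Subgroup.mem_map_of_mem f hbP, ?_⟩
  show f b ∈ Subgroup.centralizer ((K.map f : Subgroup (G ⧸ H₀)) : Set (G ⧸ H₀))
  rw [Subgroup.mem_centralizer_iff]
  intro x hx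
  exact (hcent x hx).symm

end E7

section Final
universe u
variable {G : Type u} [Group G] [Finite G] {p : ℕ} [Fact p.Prime]

theorem thompson_step (hp2 : p ≠ 2) (IH : IHyp p G) (P : Sylow p G)
    (hP : hyp p (P : Subgroup G)) : HasNormalPComplement p G := by
  by_contra hG
  have hall : ∀ P' : Sylow p G, hyp p (P' : Subgroup G) := fun P' => hyp_sylow P P' hP
  have hOp := stepB IH hall hG
  haveI := Helper81.pCore_normal (G := G) p
  have hHp : IsPGroup p (pCore p G) := Helper81.isPGroup_pCore p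
  have hHmax : ∀ X : Subgroup G, X.Normal → IsPGroup p X → X ≤ pCore p G :=
    fun X hn hx => Helper81.le_pCore hn hx
  have hC := stepC IH hall (pCore p G) hHp hHmax hOp
  have hO := stepD IH hG P hP
  have hHP : pCore p G ≤ P := hHp.le_sylow_of_normal P
  obtain ⟨K, hKn, hHK, hKP, hG_KP, hKc, hKi⟩ := exists_K (pCore p G) P hHP hC
  haveI := hKn
  have hKc' : ((pCore p G).relIndex K).Coprime p := by
    rw [← card_map_mk_eq_relIndex _ _ hHK]; exact hKc
  have hCH := stepE0 (pCore p G) hHp hHmax hO K hHK hKc' hKi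
  have hE1 := fun L h1 h2 h3 => stepE1 IH hall (pCore p G) hHp hCH P K hKP hKc' L h1 h2 h3
  have hKab := stepE2 (pCore p G) P K hHK hKc hE1
  obtain ⟨U, hUn, hUea, hUH, hHU, hCU⟩ := exists_U (pCore p G) hHp hHmax hO hCH P hHP hP.2
  haveI := hUn
  have hJ : ¬ thompsonSubgroupOf p (P : Subgroup G) ≤ Subgroup.centralizer (U : Set G) := by
    intro h
    have h1 : thompsonSubgroupOf p (P : Subgroup G) ≤ pCore p G := h.trans hCU
    have h2 := thompsonOf_eq_of_le h1 hHP
    have h3 : Subgroup.normalizer (thompsonSubgroupOf p (P : Subgroup G) : Set G) = ⊤ := by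
      rw [← h2, eq_top_iff]
      calc (⊤ : Subgroup G) = Subgroup.normalizer ((pCore p G : Subgroup G) : Set G) :=
            (Subgroup.normalizer_eq_top_iff.mpr inferInstance).symm
        _ ≤ _ := normalizer_le_normalizer_thompsonOf _
    have h4 := hP.1
    rw [h3] at h4
    exact hG (pn_top_iff.mp h4)
  obtain ⟨b, hbP, hbp, hbC, hbq⟩ := exists_b P U hUea (hUH.trans hHP) hJ
  exact hbC (hHU (stepE7 hp2 (pCore p G) hHp hHmax P K hKc hKab hG_KP U hUea hHU hCU b hbP hbp hbq))

theorem thompson_aux (hp2 : p ≠ 2) : ∀ (n : ℕ) (G : Type u) [Group G] [Finite G],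
    Nat.card G = n → ∀ P : Sylow p G, hyp p (P : Subgroup G) → HasNormalPComplement p G := by
  intro n
  induction n using Nat.strong_induction_on with
  | _ n ih =>
    intro G _ _ hn P hP
    apply thompson_step hp2 _ P hP
    intro G' _ _ hlt P' hP'
    exact ih (Nat.card G') (hn ▸ hlt) G' rfl P' hP'

/-- Thompson's normal p-complement theorem (the hard direction) -/
theorem thompson_normal_p_complement (hp2 : p ≠ 2) (P : Sylow p G)
    (h1 : HasNormalPComplement p ↥(Subgroup.normalizer (thompsonSubgroupOf p (P : Subgroup G) : Set G)))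
    (h2 : HasNormalPComplement p
      ↥(Subgroup.centralizer (((P : Subgroup G) ⊓ Subgroup.centralizer (P : Set G) : Subgroup G) : Set G))) :
    HasNormalPComplement p G :=
  thompson_aux hp2 (Nat.card G) G rfl P ⟨h1, h2⟩

end Final

end Cfsg.Agent.Lib.Lead
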