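import Mathlib
import Cfsg.Prelude
import Cfsg.Agent.Lib.Helper06.CoprimePairs
import Cfsg.Agent.Lib.Helper97.ThompsonPN
import Cfsg.Agent.Lib.Helper81.Cores
import Cfsg.Agent.Lib.Helper53.PReduced2

/-!
# Sections in which a Sylow `p`-subgroup is maximal and `X / O_p(X)` has a normal `p`-complement

In such a group the normal `p`-complement of `X / O_p(X)` is abelian; hence (for `p` odd) the
Sylow 2-subgroups of `X` are abelian.
-/

set_option autoImplicit false
open scoped commutatorElement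

namespace Cfsg.Agent.Lib.Lead

/-- a nontrivial `Tb`-invariant subgroup of a normal `p'`-subgroup `Nb` is all of `Nb`, when the
`p`-subgroup `Tb` is maximal -/
theorem le_of_coatom_invariant {Y : Type*} [Group Y] [Finite Y] {p : ℕ} [Fact p.Prime]
    {Tb Nb M : Subgroup Y} (hTp : IsPGroup p Tb) (hT : IsCoatom Tb)
    (hcop : (Nat.card Nb).Coprime p) (hM : M ≤ Nb) (hMne : M ≠ ⊥)
    (hnorm : Tb ≤ Subgroup.normalizer (M : Set Y)) : Nb ≤ M := by
  have hinf : Tb ⊓ Nb = ⊥ := by
    apply disjoint_iff.mp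
    apply Subgroup.disjoint_of_coprime_natCard
    obtain ⟨j, hj⟩ := IsPGroup.iff_card.mp hTp
    rw [hj]
    exact Nat.Coprime.pow_left j hcop.symm
  have hlt : Tb < M ⊔ Tb := by
    refine lt_of_le_of_ne le_sup_right ?_
    intro h
    have hMT : M ≤ Tb := by rw [h]; exact le_sup_left
    apply hMne
    rw [eq_bot_iff, ← hinf]
    exact le_inf hMT hM
  have htop : M ⊔ Tb = ⊤ := hT.2 _ hlt
  intro n hn
  have h1 : n ∈ ((M ⊔ Tb : Subgroup Y) : Set Y) := by rw [htop]; trivial
  rw [Subgroup.coe_mul_of_right_le_normalizer_left M Tb hnorm] at h1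
  obtain ⟨a, ha, t, ht, rfl⟩ := h1
  have hn' : a * t ∈ Nb := hn
  have htN : t ∈ Nb := by
    have : t = a⁻¹ * (a * t) := by group
    rw [this]
    exact Nb.mul_mem (Nb.inv_mem (hM ha)) hn'
  have ht1 : t = 1 := by
    have : t ∈ Tb ⊓ Nb := ⟨ht, htN⟩
    rw [hinf] at this
    exact Subgroup.mem_bot.mp this
  show a * t ∈ M
  rw [ht1, mul_one]
  exact ha

/-- the normal `p'`-subgroup `Nb` is abelian when the `p`-subgroup `Tb` is maximal -/
theorem comm_of_coatom {Y : Type*} [Group Y] [Finite Y] {p : ℕ} [Fact p.Prime]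
    {Tb Nb : Subgroup Y} [hNn : Nb.Normal] (hTp : IsPGroup p Tb) (hT : IsCoatom Tb)
    (hcop : (Nat.card Nb).Coprime p) : ∀ a ∈ Nb, ∀ b ∈ Nb, a * b = b * a := by
  classical
  by_cases hN1 : Nat.card Nb = 1
  · intro a ha b hb
    rw [Subgroup.card_eq_one] at hN1
    rw [hN1] at ha hb
    rw [Subgroup.mem_bot.mp ha, Subgroup.mem_bot.mp hb]
  -- a prime divisor q of |Nb|
  obtain ⟨q, hq, hqdvd⟩ := Nat.exists_prime_and_dvd hN1
  haveI : Fact q.Prime := ⟨hq⟩
  obtain ⟨Q, hQN, hQinv, hQcard⟩ :=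
    Cfsg.Agent.Lib.Helper06.exists_invariant_sylow Tb hTp Nb hcop q
  have hNpos : Nat.card Nb ≠ 0 := Nat.card_pos.ne'
  have hfac : 1 ≤ (Nat.card Nb).factorization q :=
    (hq.dvd_iff_one_le_factorization hNpos).mp hqdvd
  have hQne : Q ≠ ⊥ := by
    intro h
    rw [h, Subgroup.card_bot] at hQcard
    have : q ^ 1 ∣ q ^ (Nat.card Nb).factorization q := pow_dvd_pow q hfac
    rw [← hQcard, pow_one, Nat.dvd_one] at this
    exact hq.one_lt.ne' this
  have hQnorm : Tb ≤ Subgroup.normalizer (Q : Set Y) := by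
    intro g hg
    rw [Subgroup.mem_normalizer_iff]
    intro h
    constructor
    · intro hh; exact hQinv g hg h hh
    · intro hh
      have := hQinv g⁻¹ (Tb.inv_mem hg) _ hh
      have e : g⁻¹ * (g * h * g⁻¹) * g⁻¹⁻¹ = h := by group
      rwa [e] at this
  have hNQ : Nb ≤ Q := le_of_coatom_invariant hTp hT hcop hQN hQne hQnorm
  have hNQeq : Nb = Q := le_antisymm hNQ hQN
  -- Nb is a nontrivial q-group
  have hNq : IsPGroup q Nb := by
    have hc1 : Nat.card Nb = q ^ (Nat.card Nb).factorization q := by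
      conv_lhs => rw [hNQeq]
      exact hQcard
    exact IsPGroup.of_card hc1
  haveI : Nontrivial Nb := by
    rw [← Finite.one_lt_card_iff_nontrivial]
    have := Nat.card_pos (α := Nb)
    omega
  haveI hcn : Nontrivial (Subgroup.center Nb) := hNq.center_nontrivial
  obtain ⟨⟨z, hzc⟩, hz1⟩ := exists_ne (1 : Subgroup.center Nb)
  -- Z = Nb ⊓ C(Nb)
  set Z : Subgroup Y := Nb ⊓ Subgroup.centralizer (Nb : Set Y) with hZ
  have hZn : Z.Normal := inferInstance
  have hzZ : (z : Y) ∈ Z := by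
    refine ⟨z.2, ?_⟩
    show (z : Y) ∈ Subgroup.centralizer (Nb : Set Y)
    rw [Subgroup.mem_centralizer_iff]
    intro y hy
    have := Subgroup.mem_center_iff.mp hzc ⟨y, hy⟩
    exact congrArg Subtype.val this
  have hZne : Z ≠ ⊥ := by
    intro h
    rw [h] at hzZ
    apply hz1
    apply Subtype.ext
    apply Subtype.ext
    exact Subgroup.mem_bot.mp hzZ
  have hNZ : Nb ≤ Z :=
    le_of_coatom_invariant hTp hT hcop inf_le_left hZne Subgroup.le_normalizer_of_normal
  intro a ha b hb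
  have h1 : a ∈ Subgroup.centralizer (Nb : Set Y) := (hNZ ha).2
  rw [Subgroup.mem_centralizer_iff] at h1
  exact (h1 b hb).symm

/-- **Structure of the critical sections**: if `X / O_p(X)` has a normal `p`-complement and a Sylow
`p`-subgroup of `X` is a maximal subgroup (`p` odd), then the Sylow 2-subgroups of `X` are abelian. -/
theorem sylow_two_comm_of_coatom {X : Type*} [Group X] [Finite X] (p : ℕ) [Fact p.Prime]
    (hp : p ≠ 2) [hHn : (Cfsg.pCore p X).Normal]
    (hq : Cfsg.HasNormalPComplement p (X ⧸ Cfsg.pCore p X)) (T : Sylow p X)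
    (hT : IsCoatom (T : Subgroup X)) (D : Sylow 2 X) : IsMulCommutative D := by
  classical
  have hpp : p.Prime := Fact.out
  set H : Subgroup X := Cfsg.pCore p X with hH
  set π : X →* X ⧸ H := QuotientGroup.mk' H with hπ
  have hπs : Function.Surjective π := QuotientGroup.mk'_surjective H
  obtain ⟨Nb, hNn, hcop, k, hk⟩ := Cfsg.Agent.Lib.Helper97.pn_iff.mp hq
  have hHT : H ≤ (T : Subgroup X) := Cfsg.Agent.Lib.Helper53.pCore_le_sylow T
  set Tb : Subgroup (X ⧸ H) := (T : Subgroup X).map π with hTb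
  have hTbp : IsPGroup p Tb := T.2.map π
  have hcomap : Tb.comap π = (T : Subgroup X) := by
    rw [hTb, Subgroup.comap_map_eq, hπ, QuotientGroup.ker_mk']
    exact sup_eq_left.mpr hHT
  have hTbco : IsCoatom Tb := by
    constructor
    · intro h
      apply hT.1
      rw [← hcomap, h, Subgroup.comap_top]
    · intro M hM
      have h1 : (T : Subgroup X) ≤ M.comap π := by
        rw [← hcomap]; exact Subgroup.comap_mono hM.le
      have h2 : (T : Subgroup X) ≠ M.comap π := by
        intro h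
        apply hM.ne
        rw [hTb, h, Subgroup.map_comap_eq_self_of_surjective hπs]
      have h3 := hT.2 _ (lt_of_le_of_ne h1 h2)
      rw [← Subgroup.map_comap_eq_self_of_surjective hπs M, h3, ← MonoidHom.range_eq_map,
        MonoidHom.range_eq_top]
      exact hπs
  have hcomm := comm_of_coatom (Nb := Nb) hTbp hTbco hcop
  -- 2-elements map into Nb
  have h2N : ∀ x ∈ (D : Subgroup X), π x ∈ Nb := by
    intro x hx
    apply Cfsg.Agent.Lib.Helper97.mem_of_coprime_of_index_pow Nb hk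
    obtain ⟨j, hj⟩ := (IsPGroup.iff_orderOf.mp D.2) ⟨x, hx⟩
    have h1 : orderOf (π x) ∣ 2 ^ j := by
      rw [← hj, Subgroup.orderOf_mk]
      exact orderOf_map_dvd π x
    apply Nat.Coprime.coprime_dvd_left h1
    apply Nat.Coprime.pow_left
    rw [Nat.coprime_comm, hpp.coprime_iff_not_dvd]
    intro h
    exact hp ((Nat.prime_dvd_prime_iff_eq hpp Nat.prime_two).mp h)
  have hinf : H ⊓ (D : Subgroup X) = ⊥ := by
    apply disjoint_iff.mp
    apply Subgroup.disjoint_of_coprime_natCard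
    obtain ⟨a, ha⟩ := IsPGroup.iff_card.mp (Cfsg.Agent.Lib.Helper53.pCore_isPGroup (p := p) (L := X))
    obtain ⟨b, hb⟩ := IsPGroup.iff_card.mp D.2
    rw [ha, hb]
    apply Nat.Coprime.pow
    rw [hpp.coprime_iff_not_dvd]
    intro h
    exact hp ((Nat.prime_dvd_prime_iff_eq hpp Nat.prime_two).mp h)
  refine ⟨⟨?_⟩⟩
  rintro ⟨x, hx⟩ ⟨y, hy⟩
  apply Subtype.ext
  show x * y = y * x
  have hc : π x * π y = π y * π x := hcomm _ (h2N x hx) _ (h2N y hy)
  have hmemH : x * y * x⁻¹ * y⁻¹ ∈ H := by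
    rw [← QuotientGroup.ker_mk' H, MonoidHom.mem_ker]
    show π (x * y * x⁻¹ * y⁻¹) = 1
    rw [map_mul, map_mul, map_mul, hc, map_inv, map_inv]
    group
  have hmemD : x * y * x⁻¹ * y⁻¹ ∈ (D : Subgroup X) :=
    Subgroup.mul_mem _ (Subgroup.mul_mem _ (Subgroup.mul_mem _ hx hy) (Subgroup.inv_mem _ hx))
      (Subgroup.inv_mem _ hy)
  have h1 : x * y * x⁻¹ * y⁻¹ ∈ H ⊓ (D : Subgroup X) := ⟨hmemH, hmemD⟩
  rw [hinf, Subgroup.mem_bot] at h1
  calc x * y = (x * y * x⁻¹ * y⁻¹) * (y * x) := by group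
    _ = y * x := by rw [h1, one_mul]

end Cfsg.Agent.Lib.Lead
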