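import Mathlib
import Cfsg.Agent.Lib.Helper04.ThompsonNorm

/-!
# The abelian case of Hall–Higman Theorem B

If `Γ = N ⋊ T` (`N` an abelian normal `p'`-subgroup, `T` a `p`-group) acts faithfully and irreducibly
on an elementary abelian `p`-group `V`, then a nontrivial element `g ∈ T` has minimal polynomial of
degree `≥ p` on `V`: `(g - 1)^(p-1) ≠ 0`.
-/

set_option autoImplicit false

namespace Cfsg.Agent.Lib.Lead
open Cfsg.Agent.Lib.Helper04

/-- polynomial identity `(X - 1) ^ (p - 1) = ∑_{i<p} X ^ i` over `ZMod p` -/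
theorem sub_one_pow_eq_geom (p : ℕ) [Fact p.Prime] :
    ((Polynomial.X : Polynomial (ZMod p)) - 1) ^ (p - 1) =
      ∑ i ∈ Finset.range p, (Polynomial.X : Polynomial (ZMod p)) ^ i := by
  have hp : p.Prime := Fact.out
  have h1 : ((Polynomial.X : Polynomial (ZMod p)) - 1) * (Polynomial.X - 1) ^ (p - 1) =
      (Polynomial.X - 1) * ∑ i ∈ Finset.range p, (Polynomial.X : Polynomial (ZMod p)) ^ i := by
    rw [mul_geom_sum, ← pow_succ', Nat.sub_add_cancel hp.one_le, sub_pow_char, one_pow]
  have hne : ((Polynomial.X : Polynomial (ZMod p)) - 1) ≠ 0 := by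
    have := Polynomial.X_sub_C_ne_zero (1 : ZMod p)
    simpa using this
  exact mul_left_cancel₀ hne h1

section iterate
variable {V : Type*} [CommGroup V] {p : ℕ} [Fact p.Prime]

/-- if `(φ - 1)^(p-1)` kills the elementary abelian group `V`, then so do the norm of `φ` and
`φ ^ p - 1` -/
theorem norm_and_pow_of_iterate (hV : ∀ v : V, v ^ p = 1) (φ : MulAut V)
    (hφ : ∀ v : V, (fun w => φ w * w⁻¹)^[p - 1] v = 1) (v : V) :
    ∏ i ∈ Finset.range p, (φ ^ i) v = 1 ∧ (φ ^ p) v = v := by
  have hp : p.Prime := Fact.out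
  have : NeZero p := ⟨hp.ne_zero⟩
  have hx : ∀ x : Additive V, p • x = 0 := by
    intro x
    have := hV (Additive.toMul x)
    exact congrArg Additive.ofMul this
  letI : Module (ZMod p) (Additive V) := AddCommGroup.zmodModule (n := p) hx
  set f : Additive V →ₗ[ZMod p] Additive V :=
    (MonoidHom.toAdditive φ.toMonoidHom).toZModLinearMap p with hf
  have hfapp : ∀ w : Additive V, f w = Additive.ofMul (φ (Additive.toMul w)) := fun w => rfl
  have hd : ∀ (k : ℕ) (w : Additive V), ((f - 1) ^ k) w =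
      Additive.ofMul ((fun w => φ w * w⁻¹)^[k] (Additive.toMul w)) := by
    intro k
    induction k with
    | zero => intro w; simp
    | succ k ih =>
      intro w
      rw [pow_succ', Module.End.mul_apply, ih, Function.iterate_succ', Function.comp_apply]
      rw [LinearMap.sub_apply, hfapp, Module.End.one_apply, toMul_ofMul, ← ofMul_div,
        div_eq_mul_inv]
  have hzero : (f - 1) ^ (p - 1) = 0 := by
    ext w
    rw [hd, hφ]
    rfl
  have hgeom : ∑ i ∈ Finset.range p, f ^ i = 0 := by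
    have h := congrArg (Polynomial.aeval f) (sub_one_pow_eq_geom p)
    simp only [map_pow, map_sub, Polynomial.aeval_X, map_one, map_sum] at h
    rw [← h, hzero]
  have hpowp : f ^ p = 1 := by
    have h1 : f ^ p - 1 = (f - 1) * ∑ i ∈ Finset.range p, f ^ i := (mul_geom_sum f p).symm
    rw [hgeom, mul_zero] at h1
    exact sub_eq_zero.mp h1
  have hpow : ∀ (i : ℕ) (w : Additive V),
      (f ^ i) w = Additive.ofMul ((φ ^ i) (Additive.toMul w)) := by
    intro i
    induction i with
    | zero => intro w; simp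
    | succ i ih =>
      intro w
      rw [pow_succ', Module.End.mul_apply, ih, hfapp, pow_succ', MulAut.mul_apply]
      rfl
  constructor
  · have h2 := congrArg (fun F : Module.End (ZMod p) (Additive V) => F (Additive.ofMul v)) hgeom
    simp only [LinearMap.sum_apply, LinearMap.zero_apply, hpow, toMul_ofMul] at h2
    rw [← ofMul_prod] at h2
    exact h2
  · have h2 := congrArg (fun F : Module.End (ZMod p) (Additive V) => F (Additive.ofMul v)) hpowp
    simp only [hpow, toMul_ofMul, Module.End.one_apply] at h2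
    exact h2

end iterate

/-- a `p`-element whose norm kills a faithful module of exponent `p` centralises every normal abelian
`p'`-subgroup (generalisation of `Helper04.quadratic_centralizes`). -/
theorem norm_centralizes {Γ V : Type*} [Group Γ] [Finite Γ] [CommGroup V] [Finite V]
    {p : ℕ} [Fact p.Prime]
    (a : Γ →* MulAut V) (ha : Function.Injective a) (hV : ∀ v : V, v ^ p = 1)
    (K : Subgroup Γ) [K.Normal] (hKc : ∀ x ∈ K, ∀ y ∈ K, x * y = y * x)
    (hK : (Nat.card K).Coprime p)
    (β : Γ) (hβ : β ^ p = 1) (hnorm0 : ∀ v : V, ∏ i ∈ Finset.range p, a (β ^ i) v = 1) :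
    ∀ x ∈ K, β * x = x * β := by
  classical
  have hpp : p.Prime := Fact.out
  by_cases hβ1 : β = 1
  · intro x _; rw [hβ1]; simp
  have hord : orderOf β = p := orderOf_eq_prime hβ hβ1
  set φ := commHom K hKc β with hφ
  have hφx : ∀ x : K, φ x = (x : Γ) * (β * (x : Γ)⁻¹ * β⁻¹) := fun x => rfl
  set N : Subgroup Γ := φ.range with hN
  set H : Subgroup Γ := Subgroup.zpowers β with hH
  let _ : Fintype N := Fintype.ofFinite N
  let _ : Fintype H := Fintype.ofFinite H
  have hNK : N ≤ K := by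
    rintro _ ⟨x, rfl⟩
    rw [hφx]
    exact K.mul_mem x.2 (Subgroup.Normal.conj_mem inferInstance _ (K.inv_mem x.2) β)
  have hNcop : (Nat.card N).Coprime p :=
    Nat.Coprime.coprime_dvd_left (Subgroup.card_dvd_of_le hNK) hK
  have hHN : ∀ h ∈ H, ∀ k ∈ N, h * k * h⁻¹ ∈ N := by
    rintro h hh _ ⟨x, rfl⟩
    obtain ⟨n, rfl⟩ := Subgroup.mem_zpowers_iff.mp hh
    refine ⟨⟨β ^ n * x * (β ^ n)⁻¹, Subgroup.Normal.conj_mem inferInstance _ x.2 _⟩, ?_⟩
    rw [hφx, hφx]
    simp only
    group
  have hfpf : ∀ k ∈ N, ∀ h ∈ H, h ≠ 1 → k * h = h * k → k = 1 := by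
    rintro k hkN h hh hh1 hkh
    obtain ⟨n, rfl⟩ := Subgroup.mem_zpowers_iff.mp hh
    have hnp : ¬ (p : ℤ) ∣ n := by
      intro hd
      apply hh1
      obtain ⟨m, rfl⟩ := hd
      rw [zpow_mul, zpow_natCast, hβ, one_zpow]
    have hcop : IsCoprime n (p : ℤ) := by
      rw [isCoprime_comm]
      exact (Nat.prime_iff_prime_int.mp hpp).coprime_iff_not_dvd.mpr hnp
    obtain ⟨u, w, huw⟩ := hcop
    have hβu : β = (β ^ n) ^ u := by
      have : β = β ^ (u * n + w * (p : ℤ)) := by rw [huw, zpow_one]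
      rw [zpow_add, zpow_mul' β u n, zpow_mul' β w p, zpow_natCast, hβ, one_zpow, mul_one] at this
      exact this
    have hkβ : Commute k β := by
      rw [hβu]
      exact Commute.zpow_right hkh u
    obtain ⟨x, rfl⟩ := hkN
    have h1 : ((x : Γ) * β * (x : Γ)⁻¹) = φ x * β := by rw [hφx]; group
    have h2 : ((x : Γ) * β * (x : Γ)⁻¹) ^ p = 1 := by
      rw [conj_pow, hβ]; simp
    rw [h1, hkβ.mul_pow, hβ, mul_one] at h2
    have h3 : φ x ∈ K := hNK ⟨x, rfl⟩
    have h4 : (⟨φ x, h3⟩ : K) ^ (Nat.card K) = 1 := pow_card_eq_one'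
    have h5 : (φ x) ^ (Nat.card K) = 1 := by
      have := congrArg Subtype.val h4
      simp only [SubmonoidClass.coe_pow, OneMemClass.coe_one] at this
      exact this
    have h6 : orderOf (φ x) ∣ Nat.gcd (Nat.card K) p :=
      Nat.dvd_gcd (orderOf_dvd_of_pow_eq_one h5) (orderOf_dvd_of_pow_eq_one h2)
    rw [hK] at h6
    exact orderOf_eq_one_iff.mp (Nat.dvd_one.mp h6)
  have hnorm : ∀ v : V, ∏ h : H, a h v = 1 := by
    intro v
    have hfo : IsOfFinOrder β := isOfFinOrder_of_finite β
    rw [← hnorm0 v]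
    rw [← Fin.prod_univ_eq_prod_range (fun i => a (β ^ i) v) p]
    symm
    subst hord
    apply Fintype.prod_equiv (finEquivZPowers hfo)
    intro i
    rw [finEquivZPowers_apply]
  have hmain := prod_eq_pow_card a N H hHN hfpf hnorm
  -- N acts trivially
  have hNtriv : ∀ k ∈ N, k = 1 := by
    intro k hk
    apply ha
    rw [map_one]
    ext v
    rw [MulAut.one_apply]
    have hfix : a k (v ^ Fintype.card N) = v ^ Fintype.card N := by
      rw [← hmain v, map_prod]
      apply Fintype.prod_equiv (Equiv.mulLeft (⟨k, hk⟩ : N))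
      intro k'
      simp [map_mul]
    have hc : (Fintype.card N).Coprime p := by
      rw [← Nat.card_eq_fintype_card]; exact hNcop
    obtain ⟨m, -, hm⟩ := Nat.exists_mul_mod_eq_one_of_coprime hc hpp.one_lt
    have hv : v = (v ^ Fintype.card N) ^ m := by
      rw [← pow_mul, ← Nat.div_add_mod (Fintype.card N * m) p, hm, pow_add, pow_mul, hV]
      simp
    rw [hv, map_pow, hfix]
  intro x hx
  have := hNtriv (φ ⟨x, hx⟩) ⟨⟨x, hx⟩, rfl⟩
  rw [hφx] at this
  simp only at this
  calc β * x = ((x : Γ) * (β * (x : Γ)⁻¹ * β⁻¹))⁻¹ * x * β := by group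
    _ = x * β := by rw [this]; group

section main
variable {Γ V : Type*} [Group Γ] [Finite Γ] [CommGroup V] [Finite V] {p : ℕ} [Fact p.Prime]

/-- a normal `p`-subgroup acts trivially on a faithful irreducible module of exponent `p` -/
theorem normal_pSubgroup_eq_bot (hV : ∀ v : V, v ^ p = 1) (a : Γ →* MulAut V)
    (ha : Function.Injective a)
    (hirr : ∀ F : Subgroup V, (∀ γ : Γ, ∀ v ∈ F, a γ v ∈ F) → F = ⊥ ∨ F = ⊤)
    (D : Subgroup Γ) [hDn : D.Normal] (hD : IsPGroup p D) : D = ⊥ := by
  classical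
  have hpp : p.Prime := Fact.out
  -- fixed points
  let F : Subgroup V :=
    { carrier := {v | ∀ d ∈ D, a d v = v}
      one_mem' := fun d _ => map_one _
      mul_mem' := fun {x y} hx hy d hd => by rw [map_mul, hx d hd, hy d hd]
      inv_mem' := fun {x} hx d hd => by rw [map_inv, hx d hd] }
  have hFinv : ∀ γ : Γ, ∀ v ∈ F, a γ v ∈ F := by
    intro γ v hv d hd
    have h1 : γ⁻¹ * d * γ ∈ D := by
      have := hDn.conj_mem d hd γ⁻¹
      simpa using this
    have h2 := hv _ h1
    have h3 : a d (a γ v) = a γ (a (γ⁻¹ * d * γ) v) := by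
      rw [← MulAut.mul_apply, ← MulAut.mul_apply, ← map_mul, ← map_mul]
      congr 2
      group
    rw [h3, h2]
  rw [eq_bot_iff]
  intro d hd
  rw [Subgroup.mem_bot]
  apply ha
  rw [map_one]
  by_cases hV1 : Nat.card V = 1
  · haveI : Subsingleton V := (Nat.card_eq_one_iff_unique.mp hV1).1
    ext v
    exact Subsingleton.elim _ _
  have hVp : IsPGroup p V := fun v => ⟨1, by rw [pow_one]; exact hV v⟩
  have hdvd : p ∣ Nat.card V := by
    obtain ⟨n, hn⟩ := IsPGroup.iff_card.mp hVp
    rcases n with _ | n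
    · exact absurd (by simpa using hn) hV1
    · rw [hn, pow_succ]; exact dvd_mul_left _ _
  letI : MulAction D V := MulAction.compHom V (a.comp D.subtype)
  have hsmul : ∀ (x : D) (v : V), x • v = a x v := fun x v => rfl
  have h1fix : (1 : V) ∈ MulAction.fixedPoints D V := by
    intro x
    rw [hsmul, map_one]
  obtain ⟨b, hb, hb1⟩ := hD.exists_fixed_point_of_prime_dvd_card_of_fixed_point V hdvd h1fix
  have hbF : b ∈ F := by
    intro d' hd'
    exact hb ⟨d', hd'⟩
  have hFtop : F = ⊤ := by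
    rcases hirr F hFinv with h | h
    · exfalso
      rw [h, Subgroup.mem_bot] at hbF
      exact hb1 hbF.symm
    · exact h
  ext v
  have hv : v ∈ F := by rw [hFtop]; trivial
  rw [MulAut.one_apply]
  exact hv d hd

/-- **Hall–Higman Theorem B, abelian case**: `Γ = N T` with `N` an abelian normal `p'`-subgroup and `T`
a `p`-subgroup, acting faithfully and irreducibly on the elementary abelian `p`-group `V`. If `g ∈ T`
satisfies `(g - 1)^(p-1) = 0` on `V`, then `g = 1`. -/
theorem hh_abelian_faithful (hV : ∀ v : V, v ^ p = 1) (a : Γ →* MulAut V)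
    (ha : Function.Injective a)
    (hirr : ∀ F : Subgroup V, (∀ γ : Γ, ∀ v ∈ F, a γ v ∈ F) → F = ⊥ ∨ F = ⊤)
    (N Tt : Subgroup Γ) [hNn : N.Normal] (hNab : ∀ x ∈ N, ∀ y ∈ N, x * y = y * x)
    (hNcop : (Nat.card N).Coprime p) (hTt : IsPGroup p Tt) (hsup : N ⊔ Tt = ⊤)
    (g : Γ) (hgT : g ∈ Tt) (hg : ∀ v : V, (fun w => a g w * w⁻¹)^[p - 1] v = 1) : g = 1 := by
  classical
  have hgp : g ^ p = 1 := by
    apply ha
    rw [map_pow, map_one]
    ext v
    exact (norm_and_pow_of_iterate hV (a g) hg v).2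
  have hnorm : ∀ v : V, ∏ i ∈ Finset.range p, a (g ^ i) v = 1 := by
    intro v
    have := (norm_and_pow_of_iterate hV (a g) hg v).1
    simpa only [map_pow] using this
  have hcen := norm_centralizes a ha hV N hNab hNcop g hgp hnorm
  -- D = C_T(N) is a normal p-subgroup
  set D : Subgroup Γ := Tt ⊓ Subgroup.centralizer (N : Set Γ) with hD
  have hCn : (Subgroup.centralizer (N : Set Γ)).Normal := Subgroup.normal_centralizer
  have hnormD : N ⊔ Tt ≤ Subgroup.normalizer (D : Set Γ) := by
    apply sup_le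
    · intro n hn
      rw [Subgroup.mem_normalizer_iff]
      intro d
      have key : ∀ d ∈ D, n * d * n⁻¹ = d := by
        intro d hd
        have h1 : d ∈ Subgroup.centralizer (N : Set Γ) := hd.2
        rw [Subgroup.mem_centralizer_iff] at h1
        have := h1 n hn
        rw [this]; group
      constructor
      · intro hd; rw [key d hd]; exact hd
      · intro hd
        have h2 : n⁻¹ * (n * d * n⁻¹) * n⁻¹⁻¹ ∈ D := by
          have hkey' : ∀ d ∈ D, n⁻¹ * d * n⁻¹⁻¹ = d := by
            intro d hd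
            have h1 : d ∈ Subgroup.centralizer (N : Set Γ) := hd.2
            rw [Subgroup.mem_centralizer_iff] at h1
            have := h1 n⁻¹ (N.inv_mem hn)
            rw [this]; group
          rw [hkey' _ hd]; exact hd
        have e : n⁻¹ * (n * d * n⁻¹) * n⁻¹⁻¹ = d := by group
        rwa [e] at h2
    · intro t ht
      rw [Subgroup.mem_normalizer_iff]
      intro d
      constructor
      · intro hd
        exact ⟨Tt.mul_mem (Tt.mul_mem ht hd.1) (Tt.inv_mem ht), hCn.conj_mem d hd.2 t⟩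
      · intro hd
        have h2 : t⁻¹ * (t * d * t⁻¹) * t⁻¹⁻¹ ∈ D :=
          ⟨Tt.mul_mem (Tt.mul_mem (Tt.inv_mem ht) hd.1) (Tt.inv_mem (Tt.inv_mem ht)),
            hCn.conj_mem _ hd.2 t⁻¹⟩
        have e : t⁻¹ * (t * d * t⁻¹) * t⁻¹⁻¹ = d := by group
        rwa [e] at h2
  have hDn : D.Normal := by
    rw [← Subgroup.normalizer_eq_top_iff, eq_top_iff, ← hsup]
    exact hnormD
  have hDp : IsPGroup p D := hTt.to_le inf_le_left
  have hDbot := normal_pSubgroup_eq_bot hV a ha hirr D hDp
  have hgD : g ∈ D := by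
    refine ⟨hgT, ?_⟩
    show g ∈ Subgroup.centralizer (N : Set Γ)
    rw [Subgroup.mem_centralizer_iff]
    intro x hx
    exact (hcen x hx).symm
  rw [hDbot, Subgroup.mem_bot] at hgD
  exact hgD

end main

section primed
variable {Γ V : Type*} [Group Γ] [Finite Γ] [Group V] [Finite V] {p : ℕ} [Fact p.Prime]

/-- `normal_pSubgroup_eq_bot` for a group `V` with a commutativity hypothesis -/
theorem normal_pSubgroup_eq_bot' (hcomm : ∀ x y : V, x * y = y * x) (hV : ∀ v : V, v ^ p = 1)
    (a : Γ →* MulAut V) (ha : Function.Injective a)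
    (hirr : ∀ F : Subgroup V, (∀ γ : Γ, ∀ v ∈ F, a γ v ∈ F) → F = ⊥ ∨ F = ⊤)
    (D : Subgroup Γ) [hDn : D.Normal] (hD : IsPGroup p D) : D = ⊥ := by
  letI : CommGroup V := { (inferInstance : Group V) with mul_comm := hcomm }
  exact normal_pSubgroup_eq_bot hV a ha hirr D hD

/-- `hh_abelian_faithful` for a group `V` with a commutativity hypothesis -/
theorem hh_abelian_faithful' (hcomm : ∀ x y : V, x * y = y * x) (hV : ∀ v : V, v ^ p = 1)
    (a : Γ →* MulAut V) (ha : Function.Injective a)
    (hirr : ∀ F : Subgroup V, (∀ γ : Γ, ∀ v ∈ F, a γ v ∈ F) → F = ⊥ ∨ F = ⊤)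
    (N Tt : Subgroup Γ) [hNn : N.Normal] (hNab : ∀ x ∈ N, ∀ y ∈ N, x * y = y * x)
    (hNcop : (Nat.card N).Coprime p) (hTt : IsPGroup p Tt) (hsup : N ⊔ Tt = ⊤)
    (g : Γ) (hgT : g ∈ Tt) (hg : ∀ v : V, (fun w => a g w * w⁻¹)^[p - 1] v = 1) : g = 1 := by
  letI : CommGroup V := { (inferInstance : Group V) with mul_comm := hcomm }
  exact hh_abelian_faithful hV a ha hirr N Tt hNab hNcop hTt hsup g hgT hg

end primed

end Cfsg.Agent.Lib.Lead
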