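import Mathlib
import Cfsg.Prelude
import Cfsg.Agent.Lib.Lead.HHAbelian
import Cfsg.Agent.Lib.Lead.CoatomSection
import Cfsg.Agent.Lib.Helper03.NormalPComplement
import Cfsg.Agent.Lib.Helper53.PReduced2

/-!
# Engel conditions on `p`-chief factors in sections `X` with `X / O_p(X) = N ⋊ T`, `T` maximal

Translation of `hh_abelian_faithful'` to chief factors.
-/

set_option autoImplicit false
open scoped commutatorElement

namespace Cfsg.Agent.Lib.Lead

section cf
variable {X : Type*} [Group X] (U V : Subgroup X)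

/-- the image of `U` in `X ⧸ V` -/
abbrev cfBar [V.Normal] : Subgroup (X ⧸ V) := U.map (QuotientGroup.mk' V)

theorem cfBar_normal [hUn : U.Normal] [V.Normal] : (cfBar U V).Normal :=
  hUn.map _ (QuotientGroup.mk'_surjective V)

/-- conjugation action of `X` on `UV/V` -/
noncomputable def cfAct [U.Normal] [V.Normal] : X →* MulAut ↥(cfBar U V) :=
  haveI := cfBar_normal U V
  (MulAut.conjNormal (H := cfBar U V)).comp (QuotientGroup.mk' V)

theorem cfAct_coe [U.Normal] [V.Normal] (x : X) (m : cfBar U V) :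
    ((cfAct U V x m : cfBar U V) : X ⧸ V) =
      QuotientGroup.mk' V x * (m : X ⧸ V) * (QuotientGroup.mk' V x)⁻¹ := by
  haveI := cfBar_normal U V
  unfold cfAct
  simp only [MonoidHom.comp_apply]
  exact MulAut.conjNormal_apply _ _

variable {U V}

theorem cf_irr [hUn : U.Normal] [hVn : V.Normal] (hVU : V ≤ U)
    (hmin : ∀ N : Subgroup X, N.Normal → V ≤ N → N ≤ U → N = V ∨ N = U)
    (F : Subgroup (cfBar U V)) (hF : ∀ x : X, ∀ m ∈ F, cfAct U V x m ∈ F) : F = ⊥ ∨ F = ⊤ := by
  set ρ := QuotientGroup.mk' V with hρ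
  set F' : Subgroup X := (F.map (cfBar U V).subtype).comap ρ with hF'
  have hF'n : F'.Normal := by
    refine ⟨fun y hy x => ?_⟩
    obtain ⟨m, hm, hmy⟩ := hy
    refine ⟨cfAct U V x m, hF x m hm, ?_⟩
    rw [Subgroup.coe_subtype, cfAct_coe]
    rw [Subgroup.coe_subtype] at hmy
    rw [hmy, map_mul, map_mul, map_inv]
  have hVF' : V ≤ F' := by
    intro v hv
    refine ⟨1, F.one_mem, ?_⟩
    rw [map_one]
    exact ((QuotientGroup.eq_one_iff v).mpr hv).symm
  have hF'U : F' ≤ U := by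
    intro y hy
    obtain ⟨m, -, hmy⟩ := hy
    have h1 : ρ y ∈ cfBar U V := by rw [← hmy]; exact m.2
    obtain ⟨u, hu, huy⟩ := h1
    have h2 : u⁻¹ * y ∈ V := by
      rw [← QuotientGroup.eq_one_iff]
      show ρ (u⁻¹ * y) = 1
      rw [map_mul, map_inv, huy]; group
    have : y = u * (u⁻¹ * y) := by group
    rw [this]
    exact U.mul_mem hu (hVU h2)
  rcases hmin F' hF'n hVF' hF'U with h | h
  · left
    rw [eq_bot_iff]
    intro m hm
    obtain ⟨u, hu, hum⟩ := m.2
    have h1 : u ∈ F' := ⟨m, hm, by rw [Subgroup.coe_subtype]; exact hum.symm⟩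
    rw [h] at h1
    rw [Subgroup.mem_bot]
    apply Subtype.ext
    rw [← hum]
    exact (QuotientGroup.eq_one_iff u).mpr h1
  · right
    rw [eq_top_iff]
    intro m _
    obtain ⟨u, hu, hum⟩ := m.2
    have h1 : u ∈ F' := by rw [h]; exact hu
    obtain ⟨m', hm', hm'u⟩ := h1
    have : m' = m := by
      apply Subtype.ext
      rw [Subgroup.coe_subtype] at hm'u
      rw [hm'u]; exact hum
    rw [← this]; exact hm'

end cf

section cf2
variable {X : Type*} [Group X] [Finite X] {U V : Subgroup X} {p : ℕ} [Fact p.Prime]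

theorem cfBar_isPGroup [V.Normal] (hUp : IsPGroup p U) : IsPGroup p (cfBar U V) :=
  hUp.map _

theorem cfBar_nontrivial [V.Normal] (hlt : V < U) : Nontrivial (cfBar U V) := by
  obtain ⟨u, hu, huV⟩ := SetLike.exists_of_lt hlt
  refine ⟨⟨⟨QuotientGroup.mk' V u, ⟨u, hu, rfl⟩⟩, 1, ?_⟩⟩
  intro h
  apply huV
  have := congrArg Subtype.val h
  exact (QuotientGroup.eq_one_iff u).mp this

theorem cf_comm [hUn : U.Normal] [hVn : V.Normal] (hlt : V < U) (hUp : IsPGroup p U)
    (hmin : ∀ N : Subgroup X, N.Normal → V ≤ N → N ≤ U → N = V ∨ N = U) :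
    ∀ a b : cfBar U V, a * b = b * a := by
  haveI := cfBar_nontrivial hlt
  have hMp : IsPGroup p (cfBar U V) := cfBar_isPGroup hUp
  haveI hcn : Nontrivial (Subgroup.center (cfBar U V)) := hMp.center_nontrivial
  have hinv : ∀ x : X, ∀ m ∈ Subgroup.center (cfBar U V),
      cfAct U V x m ∈ Subgroup.center (cfBar U V) := by
    intro x m hm
    have hchar : (Subgroup.center (cfBar U V)).Characteristic := inferInstance
    exact (Subgroup.characteristic_iff_le_comap.mp hchar (cfAct U V x)) hm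
  rcases cf_irr hlt.le hmin _ hinv with h | h
  · exfalso
    obtain ⟨⟨z, hz⟩, hz1⟩ := exists_ne (1 : Subgroup.center (cfBar U V))
    rw [h, Subgroup.mem_bot] at hz
    exact hz1 (Subtype.ext hz)
  · intro a b
    have hb : b ∈ Subgroup.center (cfBar U V) := by rw [h]; trivial
    exact Subgroup.mem_center_iff.mp hb a

theorem cf_exp [hUn : U.Normal] [hVn : V.Normal] (hlt : V < U) (hUp : IsPGroup p U)
    (hmin : ∀ N : Subgroup X, N.Normal → V ≤ N → N ≤ U → N = V ∨ N = U) :
    ∀ m : cfBar U V, m ^ p = 1 := by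
  have hcomm := cf_comm hlt hUp hmin
  haveI := cfBar_nontrivial hlt
  have hMp : IsPGroup p (cfBar U V) := cfBar_isPGroup hUp
  let F : Subgroup (cfBar U V) :=
    { carrier := {m | m ^ p = 1}
      one_mem' := one_pow p
      mul_mem' := fun {x y} hx hy => by
        show (x * y) ^ p = 1
        rw [(show Commute x y from hcomm x y).mul_pow, hx, hy, one_mul]
      inv_mem' := fun {x} hx => by
        show (x⁻¹) ^ p = 1
        rw [inv_pow, hx, inv_one] }
  have hinv : ∀ x : X, ∀ m ∈ F, cfAct U V x m ∈ F := by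
    intro x m hm
    show (cfAct U V x m) ^ p = 1
    rw [← map_pow, (show m ^ p = 1 from hm), map_one]
  have hdvd : p ∣ Nat.card (cfBar U V) := by
    rcases hMp.card_eq_or_dvd with h | h
    · exfalso
      have := Finite.one_lt_card_iff_nontrivial.mpr (inferInstance : Nontrivial (cfBar U V))
      omega
    · exact h
  obtain ⟨z, hz⟩ := exists_prime_orderOf_dvd_card' p hdvd
  rcases cf_irr hlt.le hmin F hinv with h | h
  · exfalso
    have hzF : z ∈ F := by
      show z ^ p = 1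
      rw [← hz]; exact pow_orderOf_eq_one z
    rw [h, Subgroup.mem_bot] at hzF
    rw [hzF, orderOf_one] at hz
    exact (Fact.out : p.Prime).one_lt.ne hz
  · intro m
    have : m ∈ F := by rw [h]; trivial
    exact this

end cf2

section cf3
variable {X : Type*} [Group X] {U V : Subgroup X}

theorem cf_iterate [hUn : U.Normal] [hVn : V.Normal] (g : X) (k : ℕ) (w : cfBar U V) :
    (((fun w : cfBar U V => cfAct U V g w * w⁻¹)^[k] w : cfBar U V) : X ⧸ V) ∈
      (Cfsg.iterCommutator U (Subgroup.zpowers g) k).map (QuotientGroup.mk' V) := by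
  induction k with
  | zero => exact w.2
  | succ k ih =>
    rw [Function.iterate_succ', Function.comp_apply]
    obtain ⟨c, hc, hcm⟩ := ih
    set m := (fun w : cfBar U V => cfAct U V g w * w⁻¹)^[k] w with hm
    refine ⟨g * c * g⁻¹ * c⁻¹, ?_, ?_⟩
    · show g * c * g⁻¹ * c⁻¹ ∈ ⁅Cfsg.iterCommutator U (Subgroup.zpowers g) k, Subgroup.zpowers g⁆
      have h1 : ⁅c, g⁆ ∈ ⁅Cfsg.iterCommutator U (Subgroup.zpowers g) k, Subgroup.zpowers g⁆ :=
        Subgroup.commutator_mem_commutator hc (Subgroup.mem_zpowers g)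
      have h2 : g * c * g⁻¹ * c⁻¹ = ⁅c, g⁆⁻¹ := by
        rw [commutatorElement_def]; group
      rw [h2]
      exact Subgroup.inv_mem _ h1
    · show QuotientGroup.mk' V (g * c * g⁻¹ * c⁻¹) = ((cfAct U V g m * m⁻¹ : cfBar U V) : X ⧸ V)
      rw [Subgroup.coe_mul, cfAct_coe, Subgroup.coe_inv, ← hcm]
      simp only [map_mul, map_inv]

theorem cf_iterate_eq_one [hUn : U.Normal] [hVn : V.Normal] (g : X) (k : ℕ)
    (hE : Cfsg.iterCommutator U (Subgroup.zpowers g) k ≤ V) (w : cfBar U V) :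
    (fun w : cfBar U V => cfAct U V g w * w⁻¹)^[k] w = 1 := by
  obtain ⟨c, hc, hcm⟩ := cf_iterate g k w
  apply Subtype.ext
  rw [← hcm]
  exact (QuotientGroup.eq_one_iff c).mpr (hE hc)

theorem cf_commutator_le [hUn : U.Normal] [hVn : V.Normal] (g : X)
    (hg : cfAct U V g = 1) : ⁅U, Subgroup.zpowers g⁆ ≤ V := by
  rw [Subgroup.commutator_le]
  intro u hu h hh
  obtain ⟨n, rfl⟩ := Subgroup.mem_zpowers_iff.mp hh
  have h1 : cfAct U V (g ^ n) = 1 := by rw [map_zpow, hg, one_zpow]
  set m : cfBar U V := ⟨QuotientGroup.mk' V u⁻¹, ⟨u⁻¹, U.inv_mem hu, rfl⟩⟩ with hm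
  have h2 : ((cfAct U V (g ^ n) m : cfBar U V) : X ⧸ V) = (m : X ⧸ V) := by rw [h1]; rfl
  rw [cfAct_coe] at h2
  rw [← QuotientGroup.eq_one_iff]
  show QuotientGroup.mk' V ⁅u, g ^ n⁆ = 1
  rw [commutatorElement_def]
  have h3 : QuotientGroup.mk' V (u * g ^ n * u⁻¹ * (g ^ n)⁻¹) =
      QuotientGroup.mk' V u * (QuotientGroup.mk' V (g ^ n) * (m : X ⧸ V) *
        (QuotientGroup.mk' V (g ^ n))⁻¹) := by
    simp only [map_mul, map_inv, hm]
    group
  rw [h3, h2]
  simp [hm]

end cf3

theorem isCoatom_map_mk {X : Type*} [Group X] (H : Subgroup X) [H.Normal] (T : Subgroup X)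
    (hHT : H ≤ T) (hT : IsCoatom T) : IsCoatom (T.map (QuotientGroup.mk' H)) := by
  set π := QuotientGroup.mk' H with hπ
  have hπs : Function.Surjective π := QuotientGroup.mk'_surjective H
  have hcomap : (T.map π).comap π = T := by
    rw [Subgroup.comap_map_eq, hπ, QuotientGroup.ker_mk']
    exact sup_eq_left.mpr hHT
  constructor
  · intro h
    apply hT.1
    rw [← hcomap, h, Subgroup.comap_top]
  · intro M hM
    have h1 : T ≤ M.comap π := by
      rw [← hcomap]; exact Subgroup.comap_mono hM.le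
    have h2 : T ≠ M.comap π := by
      intro h
      apply hM.ne
      rw [h, Subgroup.map_comap_eq_self_of_surjective hπs]
    have h3 := hT.2 _ (lt_of_le_of_ne h1 h2)
    rw [← Subgroup.map_comap_eq_self_of_surjective hπs M, h3, ← MonoidHom.range_eq_map,
      MonoidHom.range_eq_top]
    exact hπs

/-- **Engel elements on `p`-chief factors** in a group `X` such that `X / O_p(X)` has a normal
`p`-complement and a Sylow `p`-subgroup `T` of `X` is maximal: if `g ∈ T` satisfies
`[U, g; p-1] ≤ V` on a chief factor `U / V` with `U ≤ O_p(X)`, then `[U, g] ≤ V`. -/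
theorem engel_chief_commutator_le {X : Type*} [Group X] [Finite X] (p : ℕ) [Fact p.Prime]
    [hHn : (Cfsg.pCore p X).Normal]
    (hq : Cfsg.HasNormalPComplement p (X ⧸ Cfsg.pCore p X)) (T : Sylow p X)
    (hT : IsCoatom (T : Subgroup X)) (g : X) (hgT : g ∈ (T : Subgroup X))
    (U V : Subgroup X) (hUV : Cfsg.IsChiefFactor U V) (hU : U ≤ Cfsg.pCore p X)
    (hE : Cfsg.iterCommutator U (Subgroup.zpowers g) (p - 1) ≤ V) :
    ⁅U, Subgroup.zpowers g⁆ ≤ V := by
  classical
  have hpp : p.Prime := Fact.out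
  obtain ⟨hlt, hUn, hVn, hmin⟩ := hUV
  set H := Cfsg.pCore p X with hH
  have hHp : IsPGroup p H := Cfsg.Agent.Lib.Helper53.pCore_isPGroup
  have hUp : IsPGroup p U := hHp.to_le hU
  have hcomm := cf_comm hlt hUp hmin
  have hexp := cf_exp hlt hUp hmin
  have hirr0 := cf_irr hlt.le hmin
  -- faithful quotient
  have hā : Function.Injective (QuotientGroup.kerLift (cfAct U V)) :=
    QuotientGroup.kerLift_injective (cfAct U V)
  have hirr : ∀ F : Subgroup (cfBar U V),
      (∀ γ : X ⧸ (cfAct U V).ker, ∀ v ∈ F, QuotientGroup.kerLift (cfAct U V) γ v ∈ F) →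
        F = ⊥ ∨ F = ⊤ := by
    intro F hF
    apply hirr0 F
    intro x m hm
    have := hF (QuotientGroup.mk' (cfAct U V).ker x) m hm
    exact this
  -- H acts trivially
  have hHker : H ≤ (cfAct U V).ker := by
    set D := H.map (QuotientGroup.mk' (cfAct U V).ker) with hD
    haveI : D.Normal := hHn.map _ (QuotientGroup.mk'_surjective _)
    have hDp : IsPGroup p D := hHp.map _
    have hDbot := normal_pSubgroup_eq_bot' hcomm hexp _ hā hirr D hDp
    intro h hh
    have : QuotientGroup.mk' (cfAct U V).ker h ∈ D := ⟨h, hh, rfl⟩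
    rw [hDbot, Subgroup.mem_bot] at this
    exact (QuotientGroup.eq_one_iff h).mp this
  -- structure of X / H
  set π := QuotientGroup.mk' H with hπ
  have hπs : Function.Surjective π := QuotientGroup.mk'_surjective H
  set Tb : Sylow p (X ⧸ H) := T.mapSurjective hπs with hTb
  have hTbcoe : (Tb : Subgroup (X ⧸ H)) = (T : Subgroup X).map π := Sylow.coe_mapSurjective _ _
  obtain ⟨Nb, hNbn, hNbc⟩ := (Cfsg.Agent.Lib.Helper03.hasNormalPComplement_iff Tb).mp hq
  have hcop : (Nat.card Nb).Coprime p := by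
    rw [← hNbc.index_eq_card]
    exact (Nat.Coprime.symm ((Nat.Prime.coprime_iff_not_dvd hpp).mpr Tb.not_dvd_index))
  have hHT : H ≤ (T : Subgroup X) := Cfsg.Agent.Lib.Helper53.pCore_le_sylow T
  have hTbco : IsCoatom (Tb : Subgroup (X ⧸ H)) := by
    rw [hTbcoe]; exact isCoatom_map_mk H _ hHT hT
  have hNab := comm_of_coatom (Nb := Nb) Tb.2 hTbco hcop
  -- the map X / H → Γ
  let φ : X ⧸ H →* X ⧸ (cfAct U V).ker :=
    QuotientGroup.map H (cfAct U V).ker (MonoidHom.id X) (by simpa using hHker)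
  have hφπ : ∀ x, φ (π x) = QuotientGroup.mk' (cfAct U V).ker x := fun x => rfl
  have hφs : Function.Surjective φ := by
    intro γ
    obtain ⟨x, rfl⟩ := QuotientGroup.mk'_surjective _ γ
    exact ⟨π x, hφπ x⟩
  haveI hNtn : (Nb.map φ).Normal := hNbn.map φ hφs
  have hNtab : ∀ x ∈ Nb.map φ, ∀ y ∈ Nb.map φ, x * y = y * x := by
    rintro _ ⟨x, hx, rfl⟩ _ ⟨y, hy, rfl⟩
    rw [← map_mul, ← map_mul, hNab x hx y hy]
  have hNtcop : (Nat.card (Nb.map φ)).Coprime p :=
    Nat.Coprime.coprime_dvd_left (Subgroup.card_map_dvd Nb φ) hcop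
  have hTtp : IsPGroup p ((Tb : Subgroup (X ⧸ H)).map φ) := Tb.2.map φ
  have hsup : Nb.map φ ⊔ (Tb : Subgroup (X ⧸ H)).map φ = ⊤ := by
    rw [← Subgroup.map_sup, hNbc.sup_eq_top, Subgroup.map_top_of_surjective φ hφs]
  have hgTt : QuotientGroup.mk' (cfAct U V).ker g ∈ (Tb : Subgroup (X ⧸ H)).map φ := by
    refine ⟨π g, ?_, hφπ g⟩
    rw [SetLike.mem_coe, hTbcoe]
    exact ⟨g, hgT, rfl⟩
  have hEng : ∀ v : cfBar U V, (fun w => QuotientGroup.kerLift (cfAct U V)
      (QuotientGroup.mk' (cfAct U V).ker g) w * w⁻¹)^[p - 1] v = 1 := by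
    intro v
    exact cf_iterate_eq_one g (p - 1) hE v
  have hg1 := hh_abelian_faithful' hcomm hexp _ hā hirr (Nb.map φ) ((Tb : Subgroup (X ⧸ H)).map φ)
    hNtab hNtcop hTtp hsup _ hgTt hEng
  have hgker : g ∈ (cfAct U V).ker := (QuotientGroup.eq_one_iff g).mp hg1
  exact cf_commutator_le g (MonoidHom.mem_ker.mp hgker)

end Cfsg.Agent.Lib.Lead
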