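import Mathlib
import Cfsg.Agent.Lib.Helper04.BurnsidePQ
import Cfsg.Agent.Lib.Helper12.Schmidt
import Cfsg.Agent.Lib.Helper97.ThompsonPN

/-!
# Groups all of whose Sylow subgroups are self-normalizing

Glue for S1992: such a group has prime power order, given the `p ≥ 5` theorem
(a nontrivial Sylow `p`-subgroup `S` with `N_G(S)/C_G(S)` a `p`-group forces a normal subgroup of
index `p`).
-/

set_option autoImplicit false

namespace Cfsg.Agent.Lib.Lead.SelfNormSylow

universe u

/-- all Sylow subgroups (for primes dividing the order) are self-normalizing -/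
def SelfNorm (G : Type*) [Group G] : Prop :=
  ∀ q : ℕ, q.Prime → q ∣ Nat.card G → ∀ Q : Sylow q G,
    Subgroup.normalizer ((Q : Subgroup G) : Set G) = Q

/-- a group with self-normalizing Sylow subgroups and a normal subgroup of prime index `p` is a
`p`-group -/
theorem isPGroup_of_index_prime {G : Type*} [Group G] [Finite G] (h : SelfNorm G) {p : ℕ}
    [hp : Fact p.Prime] (N : Subgroup G) [hNn : N.Normal] (hN : N.index = p) : IsPGroup p G := by
  classical
  by_contra hnot
  -- a prime q ≠ p dividing |G|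
  have hex : ∃ q : ℕ, q.Prime ∧ q ∣ Nat.card G ∧ q ≠ p := by
    by_contra hno
    push_neg at hno
    apply hnot
    have hpos : Nat.card G ≠ 0 := Nat.card_pos.ne'
    have := Nat.eq_prime_pow_of_unique_prime_dvd hpos (p := p) (fun {d} hd hdvd => hno d hd hdvd)
    exact IsPGroup.of_card this
  obtain ⟨q, hq, hqdvd, hqp⟩ := hex
  haveI : Fact q.Prime := ⟨hq⟩
  obtain ⟨Q⟩ : Nonempty (Sylow q G) := inferInstance
  have hQN : (Q : Subgroup G) ≤ N := by
    intro x hx
    have hk : N.index = p ^ 1 := by rw [hN, pow_one]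
    apply Cfsg.Agent.Lib.Helper97.mem_of_coprime_of_index_pow N hk
    obtain ⟨j, hj⟩ := (IsPGroup.iff_orderOf.mp Q.2) ⟨x, hx⟩
    rw [Subgroup.orderOf_mk] at hj
    rw [hj]
    apply Nat.Coprime.pow_left
    exact (Nat.coprime_primes hq hp.out).mpr hqp
  -- Frattini
  have hfr := Sylow.normalizer_sup_eq_top (Q.subtype hQN)
  have hmap : ((Q.subtype hQN : Sylow q N) : Subgroup N).map N.subtype = (Q : Subgroup G) := by
    rw [Sylow.coe_subtype]
    exact Subgroup.map_subgroupOf_eq_of_le hQN
  rw [hmap, h q hq hqdvd Q] at hfr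
  have htop : N = ⊤ := by
    rw [← hfr]
    exact (sup_eq_right.mpr hQN).symm
  rw [htop, Subgroup.index_top] at hN
  exact hp.out.one_lt.ne hN

/-- **S1992 from S1991**: if the `p ≥ 5` theorem holds for `G`, a finite group with all Sylow subgroups
self-normalizing has prime power order. -/
theorem prime_power_of_s1991 {G : Type u} [Group G] [Finite G]
    (h1991 : ∀ {p : ℕ} [Fact p.Prime], 5 ≤ p → ∀ S : Sylow p G, (S : Subgroup G) ≠ ⊥ →
      (∀ g ∈ Subgroup.normalizer (((S : Subgroup G) : Subgroup G) : Set G), (orderOf g).Coprime p →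
        g ∈ Subgroup.centralizer (((S : Subgroup G) : Subgroup G) : Set G)) →
      ∃ N : Subgroup G, N.Normal ∧ N.index = p)
    (h : SelfNorm G) : ∃ q : ℕ, q.Prime ∧ IsPGroup q G := by
  classical
  by_cases hbig : ∃ p : ℕ, p.Prime ∧ p ∣ Nat.card G ∧ 5 ≤ p
  · obtain ⟨p, hp, hpdvd, hp5⟩ := hbig
    haveI : Fact p.Prime := ⟨hp⟩
    obtain ⟨S⟩ : Nonempty (Sylow p G) := inferInstance
    have hSne : (S : Subgroup G) ≠ ⊥ := S.ne_bot_of_dvd_card hpdvd
    have hNS := h p hp hpdvd S
    have hcond : ∀ g ∈ Subgroup.normalizer (((S : Subgroup G) : Subgroup G) : Set G),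
        (orderOf g).Coprime p →
        g ∈ Subgroup.centralizer (((S : Subgroup G) : Subgroup G) : Set G) := by
      intro g hg hcop
      rw [hNS] at hg
      obtain ⟨j, hj⟩ := (IsPGroup.iff_orderOf.mp S.2) ⟨g, hg⟩
      rw [Subgroup.orderOf_mk] at hj
      have h1 : orderOf g = 1 := by
        have hd : orderOf g ∣ p ^ j := by rw [hj]
        exact Nat.eq_one_of_dvd_coprimes (Nat.Coprime.pow_right j hcop) dvd_rfl hd
      rw [orderOf_eq_one_iff] at h1
      rw [h1]
      exact Subgroup.one_mem _
    obtain ⟨N, hNn, hNi⟩ := h1991 hp5 S hSne hcond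
    exact ⟨p, hp, isPGroup_of_index_prime h N hNi⟩
  · -- |G| is a {2,3}-number
    push_neg at hbig
    have hpos : Nat.card G ≠ 0 := Nat.card_pos.ne'
    have h23 : ∀ d : ℕ, d.Prime → d ∣ Nat.card G → d = 2 ∨ d = 3 := by
      intro d hd hdvd
      have hlt := hbig d hd hdvd
      have h2 := hd.two_le
      interval_cases d
      · left; rfl
      · right; rfl
      · exfalso; revert hd; decide
    have hcard : Nat.card G = 2 ^ (Nat.card G).factorization 2 * 3 ^ (Nat.card G).factorization 3 := by
      conv_lhs => rw [← Nat.factorization_prod_pow_eq_self hpos]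
      have hsupp : (Nat.card G).factorization.support ⊆ {2, 3} := by
        intro d hd
        rw [Nat.support_factorization, Nat.mem_primeFactors] at hd
        rcases h23 d hd.1 hd.2.1 with rfl | rfl <;> simp
      rw [Finsupp.prod_of_support_subset _ hsupp _ (by intros; simp)]
      rw [Finset.prod_pair (by norm_num)]
    have hsol : Group.IsSolvable G :=
      Cfsg.Agent.Lib.Helper04.burnside_paqb 2 3 _ _ Nat.prime_two Nat.prime_three hcard
    by_cases htriv : Subsingleton G
    · refine ⟨2, Nat.prime_two, ?_⟩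
      intro g
      exact ⟨0, Subsingleton.elim _ _⟩
    · haveI : Nontrivial G := not_subsingleton_iff_nontrivial.mp htriv
      obtain ⟨M, hMn, hMp⟩ := Cfsg.Agent.Lib.Helper12.exists_normal_prime_index (G := G)
      haveI : Fact M.index.Prime := ⟨hMp⟩
      exact ⟨M.index, hMp, isPGroup_of_index_prime h M rfl⟩

end Cfsg.Agent.Lib.Lead.SelfNormSylow
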