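import Mathlib

/-!
# K-UNd-ROOT (keystone 595408, pack S5954 of helper73): roots of norm-one scalars

`exists_root_of_coprime`, `sq_cases`, `root_cases` with the exact signatures of
`notes/S5954_keystones.lean.txt`.
-/

set_option autoImplicit false

namespace Cfsg.Agent.Lib.Lead.UNd

universe u
variable {F : Type u} [Field F] {q : ℕ}

/-- `l = z ^ s` with `s * r ≡ 1 (mod q + 1)` -/
theorem exists_root_of_coprime (r : ℕ) (hcop : Nat.Coprime r (q + 1)) (z : F)
    (hz : z ^ (q + 1) = 1) : ∃ l : F, l ^ r = z ∧ l ^ (q + 1) = 1 := by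
  rcases Nat.eq_zero_or_pos q with hq | hq
  · subst hq
    have hz1 : z = 1 := by simpa using hz
    exact ⟨1, by simp [hz1], by simp⟩
  · obtain ⟨s, -, hs⟩ := Nat.exists_mul_mod_eq_one_of_coprime hcop (show 1 < q + 1 by omega)
    refine ⟨z ^ s, ?_, ?_⟩
    · have h1 : (z ^ s) ^ r = z ^ (r * s) := by rw [← pow_mul, mul_comm]
      have h2 : r * s = (q + 1) * (r * s / (q + 1)) + 1 := by
        have := Nat.div_add_mod (r * s) (q + 1)
        omega
      rw [h1, h2, pow_succ, pow_mul, hz, one_pow, one_mul]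
    · have h1 : (z ^ s) ^ (q + 1) = (z ^ (q + 1)) ^ s := by
        rw [← pow_mul, ← pow_mul, mul_comm]
      rw [h1, hz, one_pow]

/-- the norm-one group `C` is cyclic of order `q + 1`; `z` is a square in `C` or `z = μ^2` with
`μ^(q+1) = -1` (`z` is a square in `F` because `q - 1` is even) -/
theorem sq_cases [Fintype F] (hF : Fintype.card F = q ^ 2) (h2 : (2 : F) ≠ 0) (z : F)
    (hz : z ^ (q + 1) = 1) :
    (∃ l : F, l ^ 2 = z ∧ l ^ (q + 1) = 1) ∨ (∃ μ : F, μ ^ 2 = z ∧ μ ^ (q + 1) = -1) := by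
  have hz0 : z ≠ 0 := by
    rintro rfl
    rw [zero_pow (by omega)] at hz
    exact zero_ne_one hz
  have hchar : ringChar F ≠ 2 := by
    intro h
    apply h2
    have h3 : ((ringChar F : ℕ) : F) = 0 := ringChar.Nat.cast_ringChar
    rw [h] at h3
    exact_mod_cast h3
  have hodd : Fintype.card F % 2 = 1 := by
    rcases Nat.mod_two_eq_zero_or_one (Fintype.card F) with h0 | h1
    · exact absurd (FiniteField.even_card_iff_char_two.mpr h0) hchar
    · exact h1
  have hqodd : q % 2 = 1 := by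
    rw [hF] at hodd
    rcases Nat.mod_two_eq_zero_or_one q with h0 | h1
    · exfalso
      have h4 : q ^ 2 % 2 = 0 := by
        rw [Nat.pow_mod, h0]
      omega
    · exact h1
  have hsq : IsSquare z := by
    rw [FiniteField.isSquare_iff hchar hz0, hF]
    obtain ⟨k, hk⟩ : ∃ k, q = 2 * k + 1 := ⟨q / 2, by omega⟩
    have h5 : q ^ 2 / 2 = (q + 1) * k := by
      subst hk
      have h6 : (2 * k + 1) ^ 2 = 2 * ((2 * k + 1 + 1) * k) + 1 := by ring
      omega
    rw [h5, pow_mul, hz, one_pow]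
  obtain ⟨μ, hμ⟩ := hsq
  have hμ2 : μ ^ 2 = z := by rw [hμ, sq]
  have h7 : (μ ^ (q + 1)) ^ 2 = 1 := by
    have h8 : (μ ^ (q + 1)) ^ 2 = (μ ^ 2) ^ (q + 1) := by
      rw [← pow_mul, ← pow_mul, mul_comm]
    rw [h8, hμ2, hz]
  rcases sq_eq_one_iff.mp h7 with h9 | h9
  · exact Or.inl ⟨μ, hμ2, h9⟩
  · exact Or.inr ⟨μ, hμ2, h9⟩

/-- `r` odd, `r ∣ q + 1` (so `r ∤ q - 1`): an element of `C` is an `r`-th power in `F` iff it is
one in `C`. -/
theorem root_cases [Fintype F] (hF : Fintype.card F = q ^ 2) (r : ℕ) [Fact r.Prime] (hr2 : r ≠ 2)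
    (hr : r ∣ q + 1) (z : F) (hz : z ^ (q + 1) = 1) :
    (∃ l : F, l ^ r = z ∧ l ^ (q + 1) = 1) ∨ (∀ d : F, d ^ r ≠ z) := by
  by_cases hex : ∃ d : F, d ^ r = z
  · left
    obtain ⟨d, hd⟩ := hex
    have hrp : r.Prime := Fact.out
    have hz0 : z ≠ 0 := by
      rintro rfl
      rw [zero_pow (by omega)] at hz
      exact zero_ne_one hz
    have hd0 : d ≠ 0 := by
      rintro rfl
      rw [zero_pow hrp.ne_zero] at hd
      exact hz0 hd.symm
    have hq1 : 1 ≤ q := by
      rcases Nat.eq_zero_or_pos q with h0 | h0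
      · subst h0
        have : Fintype.card F = 0 := by simpa using hF
        have := Fintype.card_pos (α := F)
        omega
      · exact h0
    -- `e = d ^ (q + 1)` satisfies `e ^ r = 1` and `e ^ (q - 1) = 1`
    set e : F := d ^ (q + 1) with he
    have her : e ^ r = 1 := by
      have : e ^ r = (d ^ r) ^ (q + 1) := by
        rw [he, ← pow_mul, ← pow_mul, mul_comm]
      rw [this, hd, hz]
    have heq : e ^ (q - 1) = 1 := by
      have h1 : e ^ (q - 1) = d ^ (Fintype.card F - 1) := by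
        rw [he, ← pow_mul, hF]
        congr 1
        have h2 : (q + 1) * (q - 1) + 1 = q ^ 2 := by
          obtain ⟨k, rfl⟩ : ∃ k, q = k + 1 := ⟨q - 1, by omega⟩
          simp only [Nat.add_sub_cancel]
          ring
        omega
      rw [h1]
      exact FiniteField.pow_card_sub_one_eq_one d hd0
    -- `gcd(r, q - 1) = 1`
    have hcop : Nat.Coprime r (q - 1) := by
      rw [hrp.coprime_iff_not_dvd]
      intro hdv
      have h3 : r ∣ (q + 1) - (q - 1) := Nat.dvd_sub hr hdv
      have h4 : (q + 1) - (q - 1) = 2 := by omega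
      rw [h4] at h3
      have h5 : r ≤ 2 := Nat.le_of_dvd (by norm_num) h3
      have h6 := hrp.two_le
      omega
    have he1 : e = 1 := by
      have h7 : orderOf e ∣ r := orderOf_dvd_of_pow_eq_one her
      have h8 : orderOf e ∣ q - 1 := orderOf_dvd_of_pow_eq_one heq
      have h9 : orderOf e ∣ Nat.gcd r (q - 1) := Nat.dvd_gcd h7 h8
      rw [hcop] at h9
      have h10 : orderOf e = 1 := Nat.dvd_one.mp h9
      exact orderOf_eq_one_iff.mp h10
    exact ⟨d, hd, he1⟩
  · right
    intro d hd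
    exact hex ⟨d, hd⟩

end Cfsg.Agent.Lib.Lead.UNd
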