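import Mathlib
import Cfsg.Prelude
import Cfsg.Agent.Lib.Helper33.OddPStable
import Cfsg.Agent.Lib.Helper52.QuadAction
import Cfsg.Agent.Lib.Helper81.Cores

/-!
# p-stability (normalizer form) of groups with abelian Sylow 2-subgroups, p odd

Adaptation of `Lib.Helper33.OddPStable` (odd order) with the key lemma replaced by
`Lib.Helper52.mem_pCore_of_quadratic_action`.
-/

set_option autoImplicit false
open scoped commutatorElement

namespace Cfsg.Agent.Lib.Lead
open Cfsg.Agent.Lib.Helper33

universe u

/-- key lemma: a group with abelian Sylow 2-subgroups generated by two elements acting quadratically on a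
nontrivial abelian group of exponent `p` (`p` odd) has a nontrivial fixed point -/
theorem exists_fixed_of_quad_pair {H : Type*} [Group H] [Finite H] (p : ℕ) [Fact p.Prime]
    (hp2 : p ≠ 2) (T : Sylow 2 H) (hT : IsMulCommutative T)
    {Z : Type*} [CommGroup Z] [Finite Z] [Nontrivial Z] (hZ : ∀ z : Z, z ^ p = 1)
    (φ : H →* MulAut Z) (x y : H) (hgen : Subgroup.closure {x, y} = ⊤)
    (hx : ∀ z : Z, φ x (φ x z * z⁻¹) = φ x z * z⁻¹)
    (hy : ∀ z : Z, φ y (φ y z * z⁻¹) = φ y z * z⁻¹) :
    ∃ z : Z, z ≠ 1 ∧ φ x z = z ∧ φ y z = z := by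
  classical
  haveI : Fact (Nat.Prime 2) := ⟨Nat.prime_two⟩
  have hpp : p.Prime := Fact.out
  set Y : Subgroup (MulAut Z) := φ.range with hY
  haveI : Finite Y := Finite.of_surjective φ.rangeRestrict φ.rangeRestrict_surjective
  have hc : Function.Injective (Y.subtype) := Subgroup.subtype_injective Y
  obtain ⟨TY⟩ : Nonempty (Sylow 2 Y) := inferInstance
  have hTY : IsMulCommutative TY :=
    Cfsg.Agent.Lib.Helper52.sylow_two_comm_of_surjective φ.rangeRestrict
      φ.rangeRestrict_surjective T hT TY
  have hxY : φ.rangeRestrict x ∈ Cfsg.pCore p Y :=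
    Cfsg.Agent.Lib.Helper52.mem_pCore_of_quadratic_action hp2 hZ Y.subtype hc _
      (by
        intro w
        show φ x (φ x w / w) = φ x w / w
        rw [div_eq_mul_inv]; exact hx w) TY hTY
  have hyY : φ.rangeRestrict y ∈ Cfsg.pCore p Y :=
    Cfsg.Agent.Lib.Helper52.mem_pCore_of_quadratic_action hp2 hZ Y.subtype hc _
      (by
        intro w
        show φ y (φ y w / w) = φ y w / w
        rw [div_eq_mul_inv]; exact hy w) TY hTY
  have htop : (Cfsg.pCore p Y).comap φ.rangeRestrict = ⊤ := by
    rw [eq_top_iff, ← hgen, Subgroup.closure_le]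
    intro h hh
    rcases hh with rfl | hh
    · exact hxY
    · rw [Set.mem_singleton_iff] at hh
      rw [hh]; exact hyY
  have hYp : IsPGroup p Y := by
    intro g
    obtain ⟨h, rfl⟩ := φ.rangeRestrict_surjective g
    have hh : φ.rangeRestrict h ∈ Cfsg.pCore p Y := by
      have : h ∈ (Cfsg.pCore p Y).comap φ.rangeRestrict := by rw [htop]; exact Subgroup.mem_top h
      exact this
    obtain ⟨k, hk⟩ := (Cfsg.Agent.Lib.Helper81.isPGroup_pCore (G := Y) p) ⟨_, hh⟩
    refine ⟨k, ?_⟩
    have := congrArg Subtype.val hk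
    simpa using this
  -- p divides |Z|
  have hpZ : p ∣ Nat.card Z := by
    obtain ⟨z, hz⟩ := exists_ne (1 : Z)
    have h1 : orderOf z ∣ p := orderOf_dvd_of_pow_eq_one (hZ z)
    have h2 : orderOf z = p := by
      rcases (Nat.dvd_prime hpp).mp h1 with h | h
      · exact absurd (orderOf_eq_one_iff.mp h) hz
      · exact h
    rw [← h2]; exact orderOf_dvd_natCard z
  have h1fix : (1 : Z) ∈ MulAction.fixedPoints Y Z := by
    intro g
    show (g : MulAut Z) • (1 : Z) = 1
    rw [MulAut.smul_def, map_one]
  obtain ⟨b, hb, hb1⟩ := hYp.exists_fixed_point_of_prime_dvd_card_of_fixed_point Z hpZ h1fix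
  refine ⟨b, fun h => hb1 h.symm, ?_, ?_⟩
  · have := hb (φ.rangeRestrict x)
    exact this
  · have := hb (φ.rangeRestrict y)
    exact this

/-- **Quadratic pairs in groups with abelian Sylow 2-subgroups** (abstract form). -/
theorem quad_pprime_trivial' {H : Type*} [Group H] [Finite H] (T : Sylow 2 H)
    (hT : IsMulCommutative T) (p : ℕ)
    [Fact p.Prime] (hp2 : p ≠ 2) (x y : H) (hgen : Subgroup.closure {x, y} = ⊤) :
    ∀ (n : ℕ) (P : Type u) [Group P] [Finite P], IsPGroup p P → Nat.card P ≤ n →
      ∀ (ρ : H →* MulAut P),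
      (∀ u : P, ρ x (ρ x u * u⁻¹) = ρ x u * u⁻¹) → (∀ u : P, ρ y (ρ y u * u⁻¹) = ρ y u * u⁻¹) →
      ∀ h : H, (orderOf h).Coprime p → ρ h = 1 := by
  intro n
  induction n with
  | zero =>
    intro P _ _ hP hn
    have := Nat.card_pos (α := P)
    omega
  | succ n ih =>
    intro P _ _ hP hn ρ hx hy h hh
    by_cases htriv : Subsingleton P
    · ext u; exact Subsingleton.elim _ _
    rw [not_subsingleton_iff_nontrivial] at htriv
    by_cases hU : fixedOmega p ρ = ⊥
    · -- contradiction from the quadratic pair lemma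
      exfalso
      haveI : Nontrivial (omegaCenter p P) := by
        haveI := hP.center_nontrivial
        have hdvd : p ∣ Nat.card (Subgroup.center P) := by
          obtain ⟨k, hk⟩ := IsPGroup.iff_card.mp (hP.to_subgroup (Subgroup.center P))
          have hk0 : k ≠ 0 := by
            intro h0
            rw [h0, pow_zero] at hk
            have := Finite.one_lt_card (α := Subgroup.center P)
            omega
          rw [hk]; exact dvd_pow_self p hk0
        obtain ⟨z, hz⟩ := exists_prime_orderOf_dvd_card' p hdvd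
        have hz1 : z ≠ 1 := by
          intro h1; rw [h1, orderOf_one] at hz
          exact (Fact.out : p.Prime).one_lt.ne' hz.symm
        have hzp : (z : P) ^ p = 1 := by
          have : z ^ p = 1 := by rw [← hz]; exact pow_orderOf_eq_one z
          have := congrArg Subtype.val this
          simpa using this
        refine ⟨⟨⟨(z : P), z.2, hzp⟩, 1, ?_⟩⟩
        intro h
        apply hz1
        have := congrArg Subtype.val h
        exact Subtype.ext this
      have hZp : ∀ z : omegaCenter p P, z ^ p = 1 := fun z => Subtype.ext (by simpa using z.2.2)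
      obtain ⟨z, hz1, h1, h2⟩ := exists_fixed_of_quad_pair p hp2 T hT hZp (omegaCenterHom p ρ) x y hgen
        (by
          intro z
          apply Subtype.ext
          exact hx z)
        (by
          intro z
          apply Subtype.ext
          exact hy z)
      apply hz1
      have h1' : ρ x z = z := congrArg Subtype.val h1
      have h2' : ρ y z = z := congrArg Subtype.val h2
      have hall : ∀ g : H, ρ g z = z := by
        intro g
        have hg : g ∈ Subgroup.closure {x, y} := by rw [hgen]; exact Subgroup.mem_top g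
        induction hg using Subgroup.closure_induction with
        | mem w hw =>
          rcases hw with rfl | rfl
          · exact h1'
          · exact h2'
        | one => simp
        | mul a b _ _ ha hb => rw [map_mul, MulAut.mul_apply, hb, ha]
        | inv a _ ha =>
          rw [map_inv]
          conv_lhs => rw [← ha]
          simp
      have : (z : P) ∈ fixedOmega p ρ := ⟨z.2, hall⟩
      rw [hU, Subgroup.mem_bot] at this
      exact Subtype.ext this
    · -- induction through the quotient
      have hlt : Nat.card (P ⧸ fixedOmega p ρ) ≤ n := by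
        have h1 := Subgroup.card_eq_card_quotient_mul_card_subgroup (fixedOmega p ρ)
        have h2 : 1 < Nat.card (fixedOmega p ρ) := by
          rw [Subgroup.one_lt_card_iff_ne_bot]; exact hU
        have h3 := Nat.card_pos (α := P ⧸ fixedOmega p ρ)
        nlinarith
      have hq := ih (P ⧸ fixedOmega p ρ) (hP.to_quotient _) hlt (quotFixedHom p ρ)
        (by
          intro u
          induction u using QuotientGroup.induction_on with
          | H u =>
            rw [quotFixedHom_mk, ← QuotientGroup.mk_inv, ← QuotientGroup.mk_mul, quotFixedHom_mk, hx])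
        (by
          intro u
          induction u using QuotientGroup.induction_on with
          | H u =>
            rw [quotFixedHom_mk, ← QuotientGroup.mk_inv, ← QuotientGroup.mk_mul, quotFixedHom_mk, hy])
        h hh
      ext u
      rw [MulAut.one_apply]
      have h1 : (QuotientGroup.mk (ρ h u) : P ⧸ fixedOmega p ρ) = QuotientGroup.mk u := by
        rw [← quotFixedHom_mk, hq, MulAut.one_apply]
      rw [QuotientGroup.eq] at h1
      -- `z = (ρ h u)⁻¹ * u` is fixed
      obtain ⟨z, hz⟩ : ∃ z, z = (ρ h u)⁻¹ * u := ⟨_, rfl⟩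
      rw [← hz] at h1
      have hu : u = ρ h u * z := by rw [hz]; group
      have hzfix : ρ h z = z := h1.2 h
      have hzp : z ^ p = 1 := h1.1.2
      have hpow : ∀ k : ℕ, u = (ρ h ^ k) u * z ^ k := by
        intro k
        induction k with
        | zero => simp
        | succ k ihk =>
          have h2 : (ρ h ^ (k + 1)) u = ρ h ((ρ h ^ k) u) := by
            rw [pow_succ', MulAut.mul_apply]
          have h3 : ρ h u = ρ h ((ρ h ^ k) u) * z ^ k := by
            conv_lhs => rw [ihk]
            rw [map_mul, map_pow, hzfix]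
          rw [h2, pow_succ, ← mul_assoc, ← h3, ← hu]
      have hm := hpow (orderOf h)
      rw [← map_pow, pow_orderOf_eq_one, map_one, MulAut.one_apply] at hm
      have hz1 : z ^ orderOf h = 1 := by
        have : u * 1 = u * z ^ orderOf h := by rw [mul_one]; exact hm
        exact (mul_left_cancel this).symm
      have hz2 : orderOf z ∣ Nat.gcd (orderOf h) p :=
        Nat.dvd_gcd (orderOf_dvd_of_pow_eq_one hz1) (orderOf_dvd_of_pow_eq_one hzp)
      rw [hh, Nat.dvd_one, orderOf_eq_one_iff] at hz2
      rw [hz2, mul_one] at hu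
      exact hu.symm

/-- **p-stability for groups with abelian Sylow 2-subgroups**, `p` odd. -/
theorem quad_le_pCore' {G : Type*} [Group G] [Finite G] (T : Sylow 2 G) (hT : IsMulCommutative T) (p : ℕ)
    [Fact p.Prime] (hp : p ≠ 2) (P A : Subgroup G) (hP : IsPGroup p P)
    (hquad : ⁅⁅P, A⁆, A⁆ = ⊥) :
    (A.subgroupOf (Subgroup.normalizer (P : Set G))).map
        (QuotientGroup.mk' ((Subgroup.centralizer (P : Set G)).subgroupOf
          (Subgroup.normalizer (P : Set G))))
      ≤ Cfsg.pCore p _ := by
  classical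
  -- the conjugation-invariant set
  let K : Set (↥(Subgroup.normalizer (P : Set G)) ⧸
      ((Subgroup.centralizer (P : Set G)).subgroupOf (Subgroup.normalizer (P : Set G)))) :=
    {q | ∃ n a : ↥(Subgroup.normalizer (P : Set G)), (a : G) ∈ A ∧
      q = QuotientGroup.mk (n * a * n⁻¹)}
  have hKconj : ∀ g k, k ∈ K → g * k * g⁻¹ ∈ K := by
    intro g k hk
    induction g using QuotientGroup.induction_on with
    | H g =>
      obtain ⟨n, a, ha, rfl⟩ := hk
      refine ⟨g * n, a, ha, ?_⟩
      rw [← QuotientGroup.mk_inv, ← QuotientGroup.mk_mul, ← QuotientGroup.mk_mul]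
      congr 1
      group
  have hKp : ∀ a ∈ K, ∀ b ∈ K, IsPGroup p (Subgroup.closure ({a, b} : Set _)) := by
    rintro _ ⟨n₁, a₁, ha₁, rfl⟩ _ ⟨n₂, a₂, ha₂, rfl⟩
    obtain ⟨x, hx⟩ : ∃ x : ↥(Subgroup.normalizer (P : Set G)), x = n₁ * a₁ * n₁⁻¹ := ⟨_, rfl⟩
    obtain ⟨y, hy⟩ : ∃ y : ↥(Subgroup.normalizer (P : Set G)), y = n₂ * a₂ * n₂⁻¹ := ⟨_, rfl⟩
    rw [← hx, ← hy]
    have hqx : QuadOn P (x : G) := by
      rw [hx]
      exact quadOn_conj P _ _ n₁.2 (quadOn_of_commutator P A hquad _ ha₁)
    have hqy : QuadOn P (y : G) := by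
      rw [hy]
      exact quadOn_conj P _ _ n₂.2 (quadOn_of_commutator P A hquad _ ha₂)
    let H₀ : Subgroup ↥(Subgroup.normalizer (P : Set G)) := Subgroup.closure {x, y}
    have hcl : Subgroup.closure ({(QuotientGroup.mk x : _ ⧸
        ((Subgroup.centralizer (P : Set G)).subgroupOf (Subgroup.normalizer (P : Set G)))),
        QuotientGroup.mk y} : Set _) =
        H₀.map (QuotientGroup.mk' ((Subgroup.centralizer (P : Set G)).subgroupOf
          (Subgroup.normalizer (P : Set G)))) := by
      rw [MonoidHom.map_closure, Set.image_pair]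
      rfl
    rw [hcl]
    -- set up the abstract action
    have hxH : x ∈ H₀ := Subgroup.subset_closure (by simp)
    have hyH : y ∈ H₀ := Subgroup.subset_closure (by simp)
    have hgen : Subgroup.closure {(⟨x, hxH⟩ : H₀), ⟨y, hyH⟩} = ⊤ := by
      have h1 := Subgroup.closure_closure_coe_preimage (k := ({x, y} : Set _))
      convert h1 using 2
      ext z
      constructor
      · rintro (rfl | rfl)
        · left; rfl
        · right; rfl
      · rintro (h | h)
        · left; exact Subtype.ext h
        · right; exact Subtype.ext h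
    obtain ⟨T₀⟩ : Nonempty (Sylow 2 H₀) := inferInstance
    have hT₀ : IsMulCommutative T₀ :=
      Cfsg.Agent.Lib.Helper52.sylow_two_comm_of_injective
        ((Subgroup.normalizer (P : Set G)).subtype.comp H₀.subtype)
        ((Subgroup.subtype_injective _).comp (Subgroup.subtype_injective _)) T₀ T hT
    let ρ : H₀ →* MulAut ↥P := (normalizerAut P).comp H₀.subtype
    have hρ : ∀ (h : H₀) (u : ↥P), ((ρ h u : ↥P) : G) = (h : G) * u * (h : G)⁻¹ := fun h u => rfl
    have hkey := quad_pprime_trivial' T₀ hT₀ p hp ⟨x, hxH⟩ ⟨y, hyH⟩ hgen (Nat.card ↥P) ↥P hP le_rfl ρ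
      (by
        intro u
        apply Subtype.ext
        have := hqx u u.2
        simp only [Subgroup.coe_mul, hρ, InvMemClass.coe_inv]
        have h2 := this.eq
        calc (x : G) * ((x : G) * u * (x : G)⁻¹ * (u : G)⁻¹) * (x : G)⁻¹
            = ((x : G) * u * (x : G)⁻¹ * (u : G)⁻¹) * x * (x : G)⁻¹ := by rw [h2]
          _ = _ := by group)
      (by
        intro u
        apply Subtype.ext
        have := hqy u u.2
        simp only [Subgroup.coe_mul, hρ, InvMemClass.coe_inv]
        have h2 := this.eq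
        calc (y : G) * ((y : G) * u * (y : G)⁻¹ * (u : G)⁻¹) * (y : G)⁻¹
            = ((y : G) * u * (y : G)⁻¹ * (u : G)⁻¹) * y * (y : G)⁻¹ := by rw [h2]
          _ = _ := by group)
    -- every element of the image has `p`-power order
    rintro ⟨q, h, hh, rfl⟩
    obtain ⟨k, m, hm, hkm⟩ := Nat.exists_eq_pow_mul_and_not_dvd
      (orderOf_pos (⟨h, hh⟩ : H₀)).ne' p (Fact.out : p.Prime).ne_one
    refine ⟨k, ?_⟩
    apply Subtype.ext
    rw [Subgroup.coe_pow, Subgroup.coe_one]
    show (QuotientGroup.mk h : _ ⧸ _) ^ p ^ k = 1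
    rw [← QuotientGroup.mk_pow, QuotientGroup.eq_one_iff, Subgroup.mem_subgroupOf,
      Subgroup.mem_centralizer_iff]
    intro u hu
    have hcop : (orderOf ((⟨h, hh⟩ : H₀) ^ p ^ k)).Coprime p := by
      have h1 : ((⟨h, hh⟩ : H₀) ^ p ^ k) ^ m = 1 := by
        rw [← pow_mul, ← hkm, pow_orderOf_eq_one]
      have h2 : orderOf ((⟨h, hh⟩ : H₀) ^ p ^ k) ∣ m := orderOf_dvd_of_pow_eq_one h1
      have h3 : m.Coprime p := ((Nat.Prime.coprime_iff_not_dvd Fact.out).mpr hm).symm
      exact Nat.Coprime.coprime_dvd_left h2 h3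
    have h4 := hkey _ hcop
    have h5 := congrArg (fun α : MulAut ↥P => ((α ⟨u, hu⟩ : ↥P) : G)) h4
    simp only [hρ, MulAut.one_apply, SubgroupClass.coe_pow] at h5
    rw [Subgroup.coe_pow]
    calc u * (h : G) ^ p ^ k = ((h : G) ^ p ^ k * u * ((h : G) ^ p ^ k)⁻¹) * (h : G) ^ p ^ k := by
          rw [h5]
      _ = (h : G) ^ p ^ k * u := by group
  obtain ⟨M, hMn, hMp, hKM⟩ := Cfsg.Agent.Lib.Helper06.baer_suzuki_set (p := p) K hKconj hKp
  have hMle : M ≤ Cfsg.pCore p _ := le_sSup ⟨hMn, hMp⟩
  rintro _ ⟨a, ha, rfl⟩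
  apply hMle
  apply hKM
  refine ⟨1, a, Subgroup.mem_subgroupOf.mp ha, ?_⟩
  simp

/-- For odd `p`, a finite group with abelian Sylow 2-subgroups is `p`-stable in the normalizer form. -/
theorem isNormalizerPStable_of_sylow_two_comm {G : Type*} [Group G] [Finite G] (T : Sylow 2 G)
    (hT : IsMulCommutative T) (p : ℕ) [Fact p.Prime] (hp : p ≠ 2) :
    Cfsg.IsNormalizerPStable p G := by
  intro P hP g hg hquad
  have h := quad_le_pCore' T hT p hp P (Subgroup.zpowers g) hP hquad
  apply h
  refine ⟨⟨g, hg⟩, ?_, rfl⟩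
  rw [SetLike.mem_coe, Subgroup.mem_subgroupOf]
  exact Subgroup.mem_zpowers g

end Cfsg.Agent.Lib.Lead
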